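import Cfsg.Agent.FG78.Abelian4323.Tools

/-!
The key lemma for S4323: if `S` acts faithfully on the abelian group `V` and `R` acts on both, all
invariant under `A` and of coprime orders, then `R` centralises `S`.
-/

set_option autoImplicit false
set_option linter.unusedSectionVars false

namespace Cfsg.Agent.FG78.Ab4323

open Subgroup
open scoped commutatorElement

universe u

variable {X : Type u} [Group X] [Finite X] {A G : Subgroup X} {q : ℕ}

/-- Components of `S` outside the line of `α` commute with `⁅V, W⁆`, `W` fixed by `α`. -/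
theorem components_cent (hG : Fpf A G) (hO : Op A q) {α b : X} (hα : α ∈ A) (hα1 : α ≠ 1)
    (hb : b ∈ A) (hbα : b ∉ zpowers α) {V W S : Subgroup X} [IsMulCommutative V] (hVG : V ≤ G)
    (hSG : S ≤ G) (hWS : W ≤ S) (hAV : A ≤ normalizer (V : Set X))
    (hAS : A ≤ normalizer (S : Set X)) (hAW : A ≤ normalizer (W : Set X))
    (hSV : S ≤ normalizer (V : Set X)) (hSW : S ≤ normalizer (W : Set X))
    (hWα : ∀ w ∈ W, α * w = w * α) (hcop : (Nat.card V).Coprime (Nat.card S))
    {s : X} (hs : s ∈ S) (hsb : b * s = s * b) :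
    s ∈ centralizer ((⁅V, W⁆ : Subgroup X) : Set X) := by
  refine mem_centralizer_iff.mpr fun v hv => ?_
  have hWV : W ≤ normalizer (V : Set X) := hWS.trans hSV
  refine commute_of_fpf hO hα hα1 (V := ⁅V, W⁆) (N := S ⊓ centralizer {b})
    (le_normalizer_comm hAV hAW hα)
    (inf_cent_le_normalizer hO.comm hAS (S := {b}) (by simpa using hb) hα)
    (inf_le_left.trans (le_normalizer_comm hSV hSW))
    ((hcop.coprime_dvd_left (card_dvd_of_le (Coprime.commutator_le_of_le_normalizer hWV))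
      ).coprime_dvd_right (card_dvd_of_le inf_le_left))
    (fun x hx hxa => free_bracket hG.toGood hα hα1 hVG (hWS.trans hSG) hWα hWV
      (hcop.symm.coprime_dvd_left (card_dvd_of_le hWS)) hx hxa)
    (fun x hx hxa => hG.fix_pair hO hα hα1 hb hbα (hSG hx.1) hxa (mem_cent_singleton.mp hx.2))
    hv ⟨hs, mem_cent_singleton.mpr hsb⟩

/-- `S` is abelian. -/
theorem act_abelian (hG : Fpf A G) (hO : Op A q) {p : ℕ} [Fact p.Prime] {V S : Subgroup X}
    [IsMulCommutative V] (hSp : IsPGroup p S) (hVG : V ≤ G) (hSG : S ≤ G)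
    (hAV : A ≤ normalizer (V : Set X)) (hAS : A ≤ normalizer (S : Set X))
    (hSV : S ≤ normalizer (V : Set X)) (hcop : (Nat.card V).Coprime (Nat.card S))
    (hfaith : ∀ x ∈ S, (∀ v ∈ V, x * v = v * x) → x = 1) :
    ∀ x ∈ S, ∀ y ∈ S, x * y = y * x := by
  set Z := S ⊓ centralizer (S : Set X) with hZ
  have hAZ : A ≤ normalizer (Z : Set X) :=
    Coprime.le_normalizer_inf hAS (Coprime.le_normalizer_centralizer hAS)
  -- derived elements centralise all the `⁅V, Z_α⁆`
  have hD : ∀ α ∈ A, α ≠ 1 → ⁅S, S⁆ ≤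
      centralizer ((⁅V, Z ⊓ centralizer {α}⁆ : Subgroup X) : Set X) := by
    intro α hα hα1
    set W := Z ⊓ centralizer {α} with hW
    have hWS : W ≤ S := inf_le_left.trans inf_le_left
    have hSW : S ≤ normalizer (W : Set X) := Coprime.le_normalizer_of_conj_mem fun s hs w hw => by
      have e : s * w = w * s := mem_centralizer_iff.mp hw.1.2 s hs
      rwa [e, mul_inv_cancel_right]
    have hAW : A ≤ normalizer (W : Set X) :=
      inf_cent_le_normalizer hO.comm hAZ (by simpa using hα)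
    set C := S ⊓ centralizer ((⁅V, W⁆ : Subgroup X) : Set X) with hC
    set Sα := S ⊓ centralizer {α} with hSα
    have hSC : S ≤ normalizer (C : Set X) :=
      Coprime.le_normalizer_inf le_normalizer
        (Coprime.le_normalizer_centralizer (le_normalizer_comm hSV hSW))
    have hle : S ≤ C ⊔ Sα := le_of_cent hO hAS (hG.cop.coprime_dvd_right (card_dvd_of_le hSG))
      fun b hb hb1 x hx hxb => by
        rcases hO.centralizes_or hα hb hb1 with h | h
        · exact mem_sup_left ⟨hx, components_cent hG hO hα hα1 hb h hVG hSG hWS hAV hAS hAW hSV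
            hSW (fun w hw => mem_cent_singleton.mp hw.2) hcop hx hxb⟩
        · exact mem_sup_right ⟨hx, mem_cent_singleton.mpr (h x hxb)⟩
    refine le_trans (commutator_le.mpr fun x hx y hy => ?_) (inf_le_right : C ≤ _)
    have hSαC : Sα ≤ normalizer (C : Set X) := inf_le_left.trans hSC
    obtain ⟨c, hc, a, ha, rfl⟩ := Coprime.exists_mul_of_mem_sup hSαC (hle hx)
    obtain ⟨c', hc', a', ha', rfl⟩ := Coprime.exists_mul_of_mem_sup hSαC (hle hy)
    have haa : a * a' = a' * a := hG.ab α hα hα1 a (hSG ha.1) (mem_cent_singleton.mp ha.2) a'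
      (hSG ha'.1) (mem_cent_singleton.mp ha'.2)
    have e : ⁅c * a, c' * a'⁆ = c * (a * c' * a⁻¹) * (a' * c⁻¹ * a'⁻¹) * c'⁻¹ := by
      calc ⁅c * a, c' * a'⁆ = c * (a * c' * a⁻¹) * (a * a') * a⁻¹ * c⁻¹ * a'⁻¹ * c'⁻¹ := by
            rw [commutatorElement_def]; group
        _ = c * (a * c' * a⁻¹) * (a' * a) * a⁻¹ * c⁻¹ * a'⁻¹ * c'⁻¹ := by rw [haa]
        _ = _ := by group
    rw [e]
    exact mul_mem (mul_mem (mul_mem hc (Coprime.conj_mem_of_mem_normalizer (hSαC ha) hc'))
      (Coprime.conj_mem_of_mem_normalizer (hSαC ha') (inv_mem hc))) (inv_mem hc')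
  -- central derived elements are trivial
  have key : ∀ z ∈ ⁅S, S⁆, z ∈ Z → z = 1 := by
    intro z hzD hzZ
    have hzV : z ∈ normalizer (V : Set X) := hSV hzZ.1
    let H : Subgroup X :=
      { carrier := {y | y ∈ S ∧ ∀ v ∈ V, z * (y * v * y⁻¹ * v⁻¹) = y * v * y⁻¹ * v⁻¹ * z}
        one_mem' := ⟨one_mem S, fun v _ => by simp⟩
        mul_mem' := fun {y y'} hy hy' => ⟨mul_mem hy.1 hy'.1, fun v hv => by
          have h1 := hy.2 _ (Coprime.conj_mem_of_mem_normalizer (hSV hy'.1) hv)
          have h2 := hy'.2 v hv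
          have e : y * y' * v * (y * y')⁻¹ * v⁻¹ =
              y * (y' * v * y'⁻¹) * y⁻¹ * (y' * v * y'⁻¹)⁻¹ * (y' * v * y'⁻¹ * v⁻¹) := by group
          rw [e]
          exact (Commute.mul_right h1 h2).eq⟩
        inv_mem' := fun {y} hy => ⟨inv_mem hy.1, fun v hv => by
          have h1 : Commute z _ :=
            hy.2 _ (Coprime.conj_mem_of_mem_normalizer (hSV (inv_mem hy.1)) hv)
          have e : y⁻¹ * v * y⁻¹⁻¹ * v⁻¹ =
              (y * (y⁻¹ * v * y⁻¹⁻¹) * y⁻¹ * (y⁻¹ * v * y⁻¹⁻¹)⁻¹)⁻¹ := by group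
          rw [e]
          exact h1.inv_right.eq⟩ }
    have hZH : Z ≤ H := le_of_cent hO hAZ
      (hG.cop.coprime_dvd_right (card_dvd_of_le (inf_le_left.trans hSG)))
      fun α hα hα1 y hy hya => ⟨hy.1, fun v hv => by
        have hmem : y * v * y⁻¹ * v⁻¹ ∈ ⁅V, Z ⊓ centralizer {α}⁆ := by
          rw [← commutatorElement_def, commutator_comm]
          exact commutator_mem_commutator ⟨hy, mem_cent_singleton.mpr hya⟩ hv
        exact (mem_centralizer_iff.mp (hD α hα hα1 hzD) _ hmem).symm⟩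
    refine hfaith z hzZ.1 fun v hv => ?_
    have hc := (hZH hzZ).2 v hv
    set c := z * v * z⁻¹ * v⁻¹ with hcdef
    have hcV : c ∈ V := mul_mem (Coprime.conj_mem_of_mem_normalizer hzV hv) (inv_mem hv)
    have e1 : ∀ n : ℕ, z ^ n * v * (z ^ n)⁻¹ = c ^ n * v := by
      intro n
      induction n with
      | zero => simp
      | succ n ih =>
        have hzc : z * c ^ n = c ^ n * z := (Commute.pow_right hc n).eq
        calc z ^ (n + 1) * v * (z ^ (n + 1))⁻¹ = z * (z ^ n * v * (z ^ n)⁻¹) * z⁻¹ := by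
              rw [pow_succ']; group
          _ = z * (c ^ n * v) * z⁻¹ := by rw [ih]
          _ = (z * c ^ n) * v * z⁻¹ := by group
          _ = (c ^ n * z) * v * z⁻¹ := by rw [hzc]
          _ = c ^ n * (c * v) := by rw [hcdef]; group
          _ = c ^ (n + 1) * v := by rw [pow_succ]; group
    have e2 := e1 (orderOf z)
    rw [pow_orderOf_eq_one, one_mul, inv_one, mul_one, eq_comm, mul_eq_right] at e2
    have h1 : orderOf c = 1 := Nat.eq_one_of_dvd_coprimes hcop (V.orderOf_dvd_natCard hcV)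
      ((orderOf_dvd_of_pow_eq_one e2).trans (S.orderOf_dvd_natCard hzZ.1))
    exact mul_inv_eq_iff_eq_mul.mp (mul_inv_eq_one.mp (orderOf_eq_one_iff.mp h1))
  have hbot : commutator S = ⊥ := by
    by_contra hne
    refine PGroup.inf_center_ne_bot hSp hne (eq_bot_iff.mpr fun w hw => mem_bot.mpr ?_)
    refine Subtype.ext (key w ?_ ⟨w.2, mem_centralizer_iff.mpr fun y hy => ?_⟩)
    · rw [← map_subtype_commutator]
      exact ⟨w, hw.1, rfl⟩
    · exact congrArg Subtype.val (mem_center_iff.mp hw.2 ⟨y, hy⟩)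
  intro x hx y hy
  have h1 : ⁅(⟨x, hx⟩ : S), ⟨y, hy⟩⁆ ∈ commutator S := by
    rw [commutator_def]
    exact commutator_mem_commutator (mem_top _) (mem_top _)
  rw [hbot, mem_bot] at h1
  exact congrArg Subtype.val (commutatorElement_eq_one_iff_mul_comm.mp h1)

/-- If `R` acts on `V` and `S`, and `S` faithfully on `V`, then `R` centralises `S`. -/
theorem act_line (hG : Fpf A G) (hO : Op A q) {p : ℕ} [Fact p.Prime] {V S R : Subgroup X}
    [IsMulCommutative V] (hSp : IsPGroup p S) (hVG : V ≤ G) (hSG : S ≤ G) (hRG : R ≤ G)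
    (hAV : A ≤ normalizer (V : Set X)) (hAS : A ≤ normalizer (S : Set X))
    (hAR : A ≤ normalizer (R : Set X)) (hSV : S ≤ normalizer (V : Set X))
    (hRV : R ≤ normalizer (V : Set X)) (hRS : R ≤ normalizer (S : Set X))
    (hcop : (Nat.card V).Coprime (Nat.card S)) (hcopR : (Nat.card R).Coprime (Nat.card S))
    (hfaith : ∀ x ∈ S, (∀ v ∈ V, x * v = v * x) → x = 1) :
    R ≤ centralizer (S : Set X) := by
  have hab := act_abelian hG hO hSp hVG hSG hAV hAS hSV hcop hfaith
  have hSsub : ∀ W : Subgroup X, W ≤ S → S ≤ normalizer (W : Set X) := fun W hW =>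
    Coprime.le_normalizer_of_conj_mem fun s hs w hw => by
      rwa [hab s hs w (hW hw), mul_inv_cancel_right]
  set K : X → Subgroup X := fun a =>
    S ⊓ centralizer ((⁅V, S ⊓ centralizer {a}⁆ : Subgroup X) : Set X) with hKdef
  have hAa : ∀ a ∈ A, A ≤ normalizer ((S ⊓ centralizer {a} : Subgroup X) : Set X) :=
    fun a ha => inf_cent_le_normalizer hO.comm hAS (by simpa using ha)
  -- `S_a ⊓ K_a = 1`
  have hsemi : ∀ a : X, ∀ x ∈ S ⊓ centralizer {a}, x ∈ K a → x = 1 := by
    intro a x hx hxK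
    have hZle : zpowers x ≤ S ⊓ centralizer {a} := zpowers_le.mpr hx
    have hnV : zpowers x ≤ normalizer (V : Set X) := (hZle.trans inf_le_left).trans hSV
    have hcx : (Nat.card (zpowers x)).Coprime (Nat.card V) :=
      hcop.symm.coprime_dvd_left (card_dvd_of_le (hZle.trans inf_le_left))
    have h0 : ⁅⁅V, zpowers x⁆, zpowers x⁆ = ⊥ := by
      refine commutator_eq_bot_iff_le_centralizer.mpr ((commutator_mono le_rfl hZle).trans ?_)
      exact le_centralizer_iff.mp (zpowers_le.mpr hxK.2)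
    rw [Coprime.commutator_commutator_eq _ _ hnV hcx
      (Or.inl (Group.isSolvable_of_comm fun a b => Subtype.ext
        (hab a (hZle a.2).1 b (hZle b.2).1))),
      commutator_eq_bot_iff_le_centralizer] at h0
    refine hfaith x hx.1 fun v hv => ?_
    exact (mem_centralizer_iff.mp (h0 hv) x (mem_zpowers x))
  -- `S = K_a S_a`
  have hdec : ∀ a ∈ A, a ≠ 1 → S ≤ K a ⊔ (S ⊓ centralizer {a}) := by
    intro a ha ha1
    refine le_of_cent hO hAS (hG.cop.coprime_dvd_right (card_dvd_of_le hSG)) fun b hb hb1 x hx hxb =>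
      ?_
    rcases hO.centralizes_or ha hb hb1 with h | h
    · exact mem_sup_left ⟨hx, components_cent hG hO ha ha1 hb h hVG hSG inf_le_left hAV hAS
        (hAa a ha) hSV (hSsub _ inf_le_left) (fun w hw => mem_cent_singleton.mp hw.2) hcop hx hxb⟩
    · exact mem_sup_right ⟨hx, mem_cent_singleton.mpr (h x hxb)⟩
  have hSaK : ∀ a : X, S ⊓ centralizer {a} ≤ normalizer (K a : Set X) := fun a =>
    inf_le_left.trans (hSsub (K a) inf_le_left)
  -- `a` centralises `S / K_a`
  have htriv : ∀ a ∈ A, a ≠ 1 → ∀ s ∈ S, a * s * a⁻¹ * s⁻¹ ∈ K a := by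
    intro a ha ha1 s hs
    obtain ⟨k, hk, t, ht, rfl⟩ := Coprime.exists_mul_of_mem_sup (hSaK a) (hdec a ha ha1 hs)
    have e : a * t = t * a := mem_cent_singleton.mp ht.2
    have : a * (k * t) * a⁻¹ * (k * t)⁻¹ = a * k * a⁻¹ * k⁻¹ := by
      calc a * (k * t) * a⁻¹ * (k * t)⁻¹ = a * k * a⁻¹ * ((a * t) * a⁻¹ * t⁻¹) * k⁻¹ := by group
        _ = a * k * a⁻¹ * ((t * a) * a⁻¹ * t⁻¹) * k⁻¹ := by rw [e]
        _ = _ := by group
    rw [this]
    exact mul_mem (Coprime.conj_mem_of_mem_normalizer (Coprime.le_normalizer_inf hAS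
      (Coprime.le_normalizer_centralizer (le_normalizer_comm hAV (hAa a ha))) ha) hk) (inv_mem hk)
  refine le_of_cent hO hAR (hG.cop.coprime_dvd_right (card_dvd_of_le hRG))
    fun c hc hc1 x hx hxc => mem_centralizer_iff.mpr fun s hs => ?_
  -- the commutator of `x` and `s` lies in all `K_a` with `a` outside the line of `c`
  have hT : ∀ a ∈ A, a ∉ zpowers c → x * s * x⁻¹ * s⁻¹ ∈ K a := by
    intro a ha hac
    have ha1 : a ≠ 1 := fun e => hac (e ▸ one_mem _)
    have hca : c ∉ zpowers a := hO.notMem_symm ha hac hc hc1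
    set Va := ⁅V, S ⊓ centralizer {a}⁆ with hVa
    set U := Va ⊓ centralizer {c} with hU
    have hWV : S ⊓ centralizer {a} ≤ normalizer (V : Set X) := inf_le_left.trans hSV
    have hVaV : Va ≤ V := Coprime.commutator_le_of_le_normalizer hWV
    haveI : IsMulCommutative Va := isMulCommutative_of_le hVaV
    set L := S ⊓ centralizer {a} ⊓ centralizer (U : Set X) with hL
    have hLS : L ≤ S := inf_le_left.trans inf_le_left
    have hSVa : S ≤ normalizer (Va : Set X) := le_normalizer_comm hSV (hSsub _ inf_le_left)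
    have hLVa : L ≤ normalizer (Va : Set X) := hLS.trans hSVa
    have hcL : (Nat.card L).Coprime (Nat.card Va) :=
      (hcop.symm.coprime_dvd_left (card_dvd_of_le hLS)).coprime_dvd_right (card_dvd_of_le hVaV)
    have hAU : A ≤ normalizer (U : Set X) :=
      inf_cent_le_normalizer hO.comm (le_normalizer_comm hAV (hAa a ha)) (by simpa using hc)
    have hAL : A ≤ normalizer (L : Set X) :=
      Coprime.le_normalizer_inf (hAa a ha) (Coprime.le_normalizer_centralizer hAU)
    have hWfree : ∀ w ∈ ⁅Va, L⁆, c * w = w * c → w = 1 := fun w hw hwc => by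
      have hmem : w ∈ ⁅Va, L⁆ ⊓ centralizer (L : Set X) :=
        ⟨hw, mem_centralizer_iff.mpr fun l hl => (mem_centralizer_iff.mp hl.2 w
          ⟨Coprime.commutator_le_of_le_normalizer hLVa hw, mem_cent_singleton.mpr hwc⟩).symm⟩
      rwa [Coprime.commutator_inf_centralizer_eq_bot L Va hLVa hcL, mem_bot] at hmem
    have hLfree : ∀ l ∈ L, c * l = l * c → l = 1 := fun l hl hlc =>
      hG.fix_pair hO ha ha1 hc hca (hSG (hLS hl)) (mem_cent_singleton.mp hl.1.2) hlc
    have hcomm0 : ⁅⁅Va, L⁆, L⁆ = ⊥ :=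
      commutator_eq_bot_iff_le_centralizer.mpr fun w hw => mem_centralizer_iff.mpr fun l hl =>
        (commute_of_fpf hO hc hc1 (le_normalizer_comm (le_normalizer_comm hAV (hAa a ha)) hAL hc)
          (hAL hc) (Coprime.le_normalizer_commutator_right _ _)
          (hcL.symm.coprime_dvd_left
            (card_dvd_of_le (Coprime.commutator_le_of_le_normalizer hLVa)))
          hWfree hLfree hw hl).symm
    rw [Coprime.commutator_commutator_eq _ _ hLVa hcL
      (Or.inl (Group.isSolvable_of_comm fun a b => Subtype.ext (hab a (hLS a.2) b (hLS b.2)))),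
      commutator_eq_bot_iff_le_centralizer] at hcomm0
    have hLbot : ∀ l ∈ L, l = 1 := fun l hl =>
      hsemi a l hl.1 ⟨hLS hl, le_centralizer_iff.mp hcomm0 hl⟩
    have hKU : ∀ y ∈ S, y ∈ centralizer (U : Set X) → y ∈ K a := by
      intro y hy hyU
      obtain ⟨k, hk, t, ht, rfl⟩ := Coprime.exists_mul_of_mem_sup (hSaK a) (hdec a ha ha1 hy)
      have hkU : k ∈ centralizer (U : Set X) := centralizer_le (fun w hw => hw.1) hk.2
      have htU : t ∈ L := ⟨ht, by simpa using mul_mem (inv_mem hkU) hyU⟩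
      rw [hLbot t htU, mul_one]
      exact hk
    -- the component of `R` normalises `K_a`
    set N := R ⊓ centralizer {c} with hN
    have hNK : N ≤ normalizer (K a : Set X) := Coprime.le_normalizer_of_conj_mem fun y hy k hk => by
      refine hKU _ (Coprime.conj_mem_of_mem_normalizer (hRS hy.1) hk.1) ?_
      refine mem_centralizer_iff.mpr fun u hu => ?_
      have h1 : u * y = y * u := hG.ab c hc hc1 u (hVG (hVaV hu.1)) (mem_cent_singleton.mp hu.2) y
        (hRG hy.1) (mem_cent_singleton.mp hy.2)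
      have h1' : u * y⁻¹ = y⁻¹ * u := (Commute.inv_right h1).eq
      have h2 : u * k = k * u := mem_centralizer_iff.mp hk.2 u hu.1
      calc u * (y * k * y⁻¹) = (u * y) * k * y⁻¹ := by group
        _ = y * (u * k) * y⁻¹ := by rw [h1]; group
        _ = y * k * (u * y⁻¹) := by rw [h2]; group
        _ = y * k * y⁻¹ * u := by rw [h1']; group
    have haN : a ∈ normalizer (N : Set X) :=
      inf_cent_le_normalizer hO.comm hAR (by simpa using hc) ha
    obtain ⟨y, hy, e⟩ := exists_eq_inv_mul_conj haN (fun z hz hza =>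
      hG.fix_pair hO ha ha1 hc hca (hRG hz.1) hza (mem_cent_singleton.mp hz.2))
      (show x ∈ N from ⟨hx, mem_cent_singleton.mpr hxc⟩)
    have hs' : a⁻¹ * s * a ∈ S := Coprime.conj_mem_of_mem_normalizer' (hAS ha) hs
    set k := a⁻¹ * s * a * s⁻¹ with hk
    have hkK : k ∈ K a := by
      have h := inv_mem (htriv a ha ha1 _ hs')
      have e' : (a * (a⁻¹ * s * a) * a⁻¹ * (a⁻¹ * s * a)⁻¹)⁻¹ = k := by rw [hk]; group
      rwa [e'] at h
    have hy' : y ∈ normalizer (K a : Set X) := hNK hy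
    have ha' : a ∈ normalizer (K a : Set X) := Coprime.le_normalizer_inf hAS
      (Coprime.le_normalizer_centralizer (le_normalizer_comm hAV (hAa a ha))) ha
    have hys : y * s * y⁻¹ ∈ S := Coprime.conj_mem_of_mem_normalizer (hRS hy.1) hs
    have key : x * s * x⁻¹ * s⁻¹ = (y⁻¹ * a * y) * k * (y⁻¹ * a * y)⁻¹ *
        (y⁻¹ * (a * (y * s * y⁻¹) * a⁻¹ * (y * s * y⁻¹)⁻¹) * y) := by
      rw [e, hk]; group
    rw [key]
    exact mul_mem
      (Coprime.conj_mem_of_mem_normalizer (mul_mem (mul_mem (inv_mem hy') ha') hy') hkK)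
      (Coprime.conj_mem_of_mem_normalizer' hy' (htriv a ha ha1 _ hys))
  -- hence it is fixed by `c`
  set t := x * s * x⁻¹ * s⁻¹ with ht
  have htS : t ∈ S := mul_mem (Coprime.conj_mem_of_mem_normalizer (hRS hx) hs) (inv_mem hs)
  let T : Subgroup X := S ⊓ ⨅ a : {a : X // a ∈ A ∧ a ∉ zpowers c}, K a.1
  have hTle : T ≤ centralizer {c} := by
    refine le_of_cent hO (Coprime.le_normalizer_of_conj_mem fun α hα z hz => ?_)
      (hG.cop.coprime_dvd_right (card_dvd_of_le (inf_le_left.trans hSG))) fun b hb hb1 z hz hzb => ?_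
    · refine ⟨Coprime.conj_mem_of_mem_normalizer (hAS hα) hz.1, mem_iInf.mpr fun a => ?_⟩
      exact Coprime.conj_mem_of_mem_normalizer (Coprime.le_normalizer_inf hAS
        (Coprime.le_normalizer_centralizer (le_normalizer_comm hAV (hAa a.1 a.2.1))) hα)
        (mem_iInf.mp hz.2 a)
    · rcases hO.centralizes_or hc hb hb1 with h | h
      · rw [hsemi b z ⟨hz.1, mem_cent_singleton.mpr hzb⟩ (mem_iInf.mp hz.2 ⟨b, hb, h⟩)]
        exact one_mem _
      · exact mem_cent_singleton.mpr (h z hzb)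
  have htc : c * t = t * c :=
    mem_cent_singleton.mp (hTle ⟨htS, mem_iInf.mpr fun a => hT a.1 a.2.1 a.2.2⟩)
  have hxt : x * t = t * x := hG.ab c hc hc1 x (hRG hx) hxc t (hSG htS) htc
  have hpow : ∀ n : ℕ, x ^ n * s * (x ^ n)⁻¹ = t ^ n * s := by
    intro n
    induction n with
    | zero => simp
    | succ n ih =>
      have h1 : x * t ^ n = t ^ n * x := (Commute.pow_right hxt n).eq
      calc x ^ (n + 1) * s * (x ^ (n + 1))⁻¹ = x * (x ^ n * s * (x ^ n)⁻¹) * x⁻¹ := by
            rw [pow_succ']; group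
        _ = x * (t ^ n * s) * x⁻¹ := by rw [ih]
        _ = (x * t ^ n) * s * x⁻¹ := by group
        _ = (t ^ n * x) * s * x⁻¹ := by rw [h1]
        _ = t ^ n * (t * s) := by rw [ht]; group
        _ = t ^ (n + 1) * s := by rw [pow_succ]; group
  have h2 := hpow (orderOf x)
  rw [pow_orderOf_eq_one, one_mul, inv_one, mul_one, eq_comm, mul_eq_right] at h2
  have h3 : orderOf t = 1 := Nat.eq_one_of_dvd_coprimes hcopR
    ((orderOf_dvd_of_pow_eq_one h2).trans (R.orderOf_dvd_natCard hx)) (S.orderOf_dvd_natCard htS)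
  exact (mul_inv_eq_iff_eq_mul.mp (mul_inv_eq_one.mp (orderOf_eq_one_iff.mp h3))).symm

end Cfsg.Agent.FG78.Ab4323
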