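import Cfsg.Agent.FG78.Abelian4323.Min

/-!
In a minimal counterexample for S4323 the invariant Sylow subgroups for two primes lie in an
invariant `{r, s}`-subgroup: analysis of the maximal invariant `{r, s}`-subgroups.
-/

set_option autoImplicit false
set_option linter.unusedSectionVars false

namespace Cfsg.Agent.FG78.Ab4323

open Subgroup
open scoped commutatorElement

universe u

/-- An invariant `{r, s}`-subgroup. -/
structure RS {X : Type u} [Group X] (A G : Subgroup X) (r s : ℕ) (H : Subgroup X) : Prop where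
  le : H ≤ G
  inv : A ≤ normalizer (H : Set X)
  primes : ∀ p : ℕ, p.Prime → p ∣ Nat.card H → p = r ∨ p = s

/-- A maximal invariant `{r, s}`-subgroup. -/
structure MaxRS {X : Type u} [Group X] (A G : Subgroup X) (r s : ℕ) (M : Subgroup X) : Prop
    extends RS A G r s M where
  max : ∀ H, RS A G r s H → M ≤ H → H ≤ M

/-- No invariant `{r, s}`-subgroup contains both invariant Sylow subgroups. -/
structure Cfg {X : Type u} [Group X] (A G : Subgroup X) (q r s : ℕ) (P Q : Subgroup X) : Prop where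
  min : Min A G q
  ne : r ≠ s
  sylP : InvSyl A G r P
  sylQ : InvSyl A G s Q
  no : ∀ H, RS A G r s H → P ≤ H → ¬ Q ≤ H

variable {X : Type u} [Group X] [Finite X] {A G : Subgroup X} {q r s : ℕ} [Fact r.Prime]
  [Fact s.Prime] {P Q : Subgroup X}

theorem RS.symm {H : Subgroup X} (h : RS A G r s H) : RS A G s r H :=
  ⟨h.le, h.inv, fun p hp hd => (h.primes p hp hd).symm⟩

theorem MaxRS.symm {M : Subgroup X} (h : MaxRS A G r s M) : MaxRS A G s r M :=
  ⟨h.toRS.symm, fun H hH => h.max H hH.symm⟩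

theorem RS.of_pgroup {H : Subgroup X} (hH : H ≤ G) (hA : A ≤ normalizer (H : Set X))
    (hp : IsPGroup r H) : RS A G r s H :=
  ⟨hH, hA, fun _ hp' hd => Or.inl (prime_eq_of_dvd_of_isPGroup hp' hp hd)⟩

theorem RS.of_pgroup' {H : Subgroup X} (hH : H ≤ G) (hA : A ≤ normalizer (H : Set X))
    (hp : IsPGroup s H) : RS A G r s H :=
  (RS.of_pgroup (r := s) (s := r) hH hA hp).symm

theorem RS.mono {H K : Subgroup X} (h : RS A G r s H) (hK : K ≤ H)
    (hA : A ≤ normalizer (K : Set X)) : RS A G r s K :=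
  ⟨hK.trans h.le, hA, fun p hp hd => h.primes p hp (hd.trans (card_dvd_of_le hK))⟩

/-- Elements of two normalised subgroups of coprime orders commute. -/
theorem commute_of_normalized {U V : Subgroup X} (hUV : U ≤ normalizer (V : Set X))
    (hVU : V ≤ normalizer (U : Set X)) (hcop : (Nat.card U).Coprime (Nat.card V)) {u v : X}
    (hu : u ∈ U) (hv : v ∈ V) : u * v = v * u := by
  refine commutatorElement_eq_one_iff_mul_comm.mp (Coprime.inf_eq_bot_of_coprime' hcop ?_ ?_)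
  · rw [commutatorElement_def, mul_assoc u, mul_assoc u]
    exact mul_mem hu (Coprime.conj_mem_of_mem_normalizer (hVU hv) (inv_mem hu))
  · rw [commutatorElement_def]
    exact mul_mem (Coprime.conj_mem_of_mem_normalizer (hUV hu) hv) (inv_mem hv)

/-- A subgroup of a `p`-group which is its own normaliser is the whole group. -/
theorem eq_of_normalizer_le {V : Subgroup X} (hP : IsPGroup r P) (hV : V ≤ P)
    (h : P ⊓ normalizer (V : Set X) ≤ V) : V = P := by
  by_contra hne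
  have htop : V.subgroupOf P ≠ ⊤ := fun e => hne (le_antisymm hV (subgroupOf_eq_top.mp e))
  refine (PGroup.lt_normalizer hP htop).ne (le_antisymm le_normalizer ?_)
  rw [← subgroupOf_normalizer_eq hV]
  exact fun y hy => h ⟨y.2, hy⟩

theorem eq_bot_of_le_of_le {U V : Subgroup X} (hne : r ≠ s) (hU : IsPGroup r U)
    (hV : IsPGroup s V) (h : U ≤ V) : U = ⊥ :=
  eq_bot_iff.mpr fun _ hx =>
    mem_bot.mpr (Coprime.inf_eq_bot_of_coprime' (coprime_of_isPGroup hne hU hV) hx (h hx))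

namespace Cfg

theorem symm (hc : Cfg A G q r s P Q) : Cfg A G q s r Q P :=
  ⟨hc.min, hc.ne.symm, hc.sylQ, hc.sylP, fun H hH h1 h2 => hc.no H hH.symm h2 h1⟩

theorem rsP (hc : Cfg A G q r s P Q) : RS A G r s P :=
  .of_pgroup hc.sylP.le hc.sylP.inv hc.sylP.isP

theorem rsQ (hc : Cfg A G q r s P Q) : RS A G r s Q :=
  .of_pgroup' hc.sylQ.le hc.sylQ.inv hc.sylQ.isP

theorem ne_bot (hc : Cfg A G q r s P Q) : P ≠ ⊥ := fun h =>
  hc.no Q hc.rsQ (h ▸ bot_le) le_rfl

theorem solvable (hc : Cfg A G q r s P Q) {H : Subgroup X} (hH : RS A G r s H) :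
    Group.IsSolvable H :=
  hc.min.sub H hH.le hH.inv fun e => hc.no H hH (e ▸ hc.sylP.le) (e ▸ hc.sylQ.le)

theorem exists_max (hc : Cfg A G q r s P Q) {H : Subgroup X} (hH : RS A G r s H) :
    ∃ M, MaxRS A G r s M ∧ H ≤ M := by
  obtain ⟨M, hle, hmax⟩ :=
    (Set.toFinite {K : Subgroup X | RS A G r s K}).exists_le_maximal (a := H) hH
  exact ⟨M, ⟨hmax.prop, fun K hK hMK => hmax.2 hK hMK⟩, hle⟩

/-- The `r`-core of an invariant `{r, s}`-subgroup. -/
theorem core (hc : Cfg A G q r s P Q) {H : Subgroup X} (hH : RS A G r s H) :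
    A ≤ normalizer (Cfsg.pCoreOf r H : Set X) ∧ H ≤ normalizer (Cfsg.pCoreOf r H : Set X) ∧
      Cfsg.pCoreOf r H ≤ P :=
  ⟨hH.inv.trans (normalizer_le_normalizer_pCoreOf r H),
    le_normalizer.trans (normalizer_le_normalizer_pCoreOf r H),
    hc.min.toFpf.le_invSyl hc.min.op hc.sylP ((pCoreOf_le r H).trans hH.le)
      (hH.inv.trans (normalizer_le_normalizer_pCoreOf r H)) (isPGroup_pCoreOf r H)⟩

/-- An invariant proper subgroup has an invariant Hall subgroup containing all invariant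
`{r, s}`-subgroups in it. -/
theorem exists_hall (hc : Cfg A G q r s P Q) {L : Subgroup X} (hL : L ≤ G)
    (hAL : A ≤ normalizer (L : Set X)) (hne : L ≠ G) :
    ∃ Hl, RS A G r s Hl ∧ Hl ≤ L ∧ ∀ H, RS A G r s H → H ≤ L → H ≤ Hl := by
  have hsol := hc.min.sub L hL hAL hne
  have hcop := hc.min.cop.coprime_dvd_right (card_dvd_of_le hL)
  obtain ⟨Hl, hHl, hAHl⟩ := Coprime.exists_invariant_hall A L hAL hcop hsol {p | p = r ∨ p = s}
  refine ⟨Hl, ⟨hHl.1.trans hL, hAHl, hHl.2.1⟩, hHl.1, fun H hH hHL => ?_⟩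
  obtain ⟨K, hK, hAK, hHK⟩ := Coprime.exists_invariant_hall_ge (Nat.card L) X A L H hAL hcop hsol
    rfl hHL hH.inv {p | p = r ∨ p = s} hH.primes
  obtain ⟨c, hcm, he⟩ := Coprime.exists_invariant_hall_conj A L hAL hcop hsol hK hAK hHl hAHl
  have h1 : c = 1 := hc.min.fix c (hL hcm.1) fun a ha => mem_centralizer_iff.mp hcm.2 a ha
  rw [← he, h1]
  intro x hx
  exact ⟨x, hHK hx, by simp⟩

theorem le_max (hc : Cfg A G q r s P Q) {M : Subgroup X} (hM : MaxRS A G r s M) {L : Subgroup X}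
    (hL : L ≤ G) (hAL : A ≤ normalizer (L : Set X)) (hne : L ≠ G) (hML : M ≤ L) {H : Subgroup X}
    (hH : RS A G r s H) (hHL : H ≤ L) : H ≤ M := by
  obtain ⟨Hl, hHl, -, hall⟩ := hc.exists_hall hL hAL hne
  exact (hall H hH hHL).trans (hM.max Hl hHl (hall M hM.toRS hML))

theorem le_max_of_norm (hc : Cfg A G q r s P Q) {M : Subgroup X} (hM : MaxRS A G r s M)
    {N : Subgroup X} (hN : N ≤ M) (hAN : A ≤ normalizer (N : Set X))
    (hMN : M ≤ normalizer (N : Set X)) (hne : N ≠ ⊥) {H : Subgroup X} (hH : RS A G r s H)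
    (hHN : H ≤ normalizer (N : Set X)) : H ≤ M :=
  hc.le_max hM inf_le_left
    (Coprime.le_normalizer_inf hc.min.norm (Coprime.le_normalizer_normalizer hAN))
    (hc.min.normalizer_ne (hN.trans hM.le) hAN hne (Coprime.solvable_of_le hN (hc.solvable hM.toRS)))
    (le_inf hM.le hMN) hH (le_inf hH.le hHN)

/-- A maximal subgroup with trivial `s`-core contains `P` as its `r`-core. -/
theorem pure_max (hc : Cfg A G q r s P Q) {M : Subgroup X} (hM : MaxRS A G r s M)
    (hs : Cfsg.pCoreOf s M = ⊥) : P ≤ M ∧ M ≤ normalizer (P : Set X) := by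
  set V := Cfsg.pCoreOf r M with hV
  obtain ⟨hAV, hMV, hVP⟩ := hc.core hM.toRS
  have hMne : M ≠ ⊥ := fun h => hc.ne_bot (le_bot_iff.mp (h ▸ hM.max P hc.rsP (h ▸ bot_le)))
  have hVne : V ≠ ⊥ := fun h => hMne (le_bot_iff.mp (by
    have := cent_core_le (hc.solvable hM.toRS) hM.primes hs
    rw [← hV, h] at this
    exact fun x hx => this ⟨hx, mem_centralizer_iff.mpr fun y hy => by
      rw [mem_bot.mp hy, one_mul, mul_one]⟩))
  have hMP : M ⊓ P ≤ V := pure_le hc.min.toFpf hc.min.op hc.ne hM.le hM.inv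
    (hc.solvable hM.toRS) hM.primes hs inf_le_left (hc.sylP.isP.to_le inf_le_right)
  have hle : P ⊓ normalizer (V : Set X) ≤ V := fun x hx => hMP
    ⟨hc.le_max_of_norm hM (pCoreOf_le r M) hAV hMV hVne
      (hc.rsP.mono inf_le_left
        (Coprime.le_normalizer_inf hc.sylP.inv (Coprime.le_normalizer_normalizer hAV)))
      inf_le_right hx, hx.1⟩
  have he : V = P := eq_of_normalizer_le hc.sylP.isP hVP hle
  exact ⟨he ▸ pCoreOf_le r M, he ▸ hMV⟩

/-- The first half of the uniqueness argument. -/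
theorem half (hc : Cfg A G q r s P Q) {M : Subgroup X} (hM : MaxRS A G r s M) {U V : Subgroup X}
    (hU : IsPGroup r U) (hV : IsPGroup s V) (hUM : U ≤ M) (hVM : V ≤ M)
    (hAU : A ≤ normalizer (U : Set X)) (hAV : A ≤ normalizer (V : Set X))
    (hMU : M ≤ normalizer (U : Set X)) (hMV : M ≤ normalizer (V : Set X))
    (hU1 : U ≠ ⊥) (hV1 : V ≠ ⊥) {H : Subgroup X} (hH : RS A G r s H) (hUH : U ≤ H) (hVH : V ≤ H) :
    Cfsg.pCoreOf r H ≤ M ∧ V ≤ centralizer (Cfsg.pCoreOf r H : Set X) := by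
  set Y := Cfsg.pCoreOf r H with hY
  obtain ⟨hAY, hHY, -⟩ := hc.core hH
  have hcop : (Nat.card U).Coprime (Nat.card V) := coprime_of_isPGroup hc.ne hU hV
  have hVY : V ≤ centralizer (Y : Set X) := by
    refine Coprime.thompson_pxq r U V Y hU ?_ (isPGroup_pCoreOf r H)
      (fun u hu => mem_centralizer_iff.mpr fun v hv =>
        (commute_of_normalized (hUM.trans hMV) (hVM.trans hMU) hcop hu hv).symm)
      (hUH.trans hHY) (hVH.trans hHY) fun x hx => mem_centralizer_iff.mpr fun v hv => ?_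
    · obtain ⟨n, hn⟩ := IsPGroup.iff_card.mp hV
      rw [hn]
      exact Nat.Coprime.pow_left _ ((Nat.coprime_primes Fact.out Fact.out).mpr hc.ne.symm)
    · have hC : Y ⊓ centralizer (U : Set X) ≤ M := hc.le_max_of_norm hM hUM hAU hMU hU1
        (hH.mono (inf_le_left.trans (pCoreOf_le r H))
          (Coprime.le_normalizer_inf hAY (Coprime.le_normalizer_centralizer hAU)))
        fun y hy => centralizer_le_normalizer _ hy.2
      refine commutatorElement_eq_one_iff_mul_comm.mp (Coprime.inf_eq_bot_of_coprime'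
        (coprime_of_isPGroup hc.ne.symm hV (isPGroup_pCoreOf r H)) ?_ ?_)
      · rw [commutatorElement_def, mul_assoc v, mul_assoc v]
        exact mul_mem hv (Coprime.conj_mem_of_mem_normalizer (hMV (hC hx)) (inv_mem hv))
      · rw [commutatorElement_def]
        exact mul_mem (Coprime.conj_mem_of_mem_normalizer (hHY (hVH hv)) hx.1) (inv_mem hx.1)
  refine ⟨hc.le_max_of_norm hM hVM hAV hMV hV1 (hH.mono (pCoreOf_le r H) hAY) fun y hy => ?_, hVY⟩
  exact centralizer_le_normalizer _ (le_centralizer_iff.mp hVY hy)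

/-- The uniqueness of `M`. -/
theorem uniq (hc : Cfg A G q r s P Q) {M : Subgroup X} (hM : MaxRS A G r s M) {U V : Subgroup X}
    (hU : IsPGroup r U) (hV : IsPGroup s V) (hUM : U ≤ M) (hVM : V ≤ M)
    (hAU : A ≤ normalizer (U : Set X)) (hAV : A ≤ normalizer (V : Set X))
    (hMU : M ≤ normalizer (U : Set X)) (hMV : M ≤ normalizer (V : Set X))
    (hU1 : U ≠ ⊥) (hV1 : V ≠ ⊥) {H : Subgroup X} (hH : RS A G r s H) (hUH : U ≤ H) (hVH : V ≤ H) :
    H ≤ M := by
  obtain ⟨H₁, hH₁, hle⟩ := hc.exists_max hH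
  set Y := Cfsg.pCoreOf r H₁ with hY
  set Z := Cfsg.pCoreOf s H₁ with hZ
  obtain ⟨hYM, hVY⟩ := hc.half hM hU hV hUM hVM hAU hAV hMU hMV hU1 hV1 hH₁.toRS (hUH.trans hle)
    (hVH.trans hle)
  obtain ⟨hZM, hUZ⟩ := hc.symm.half hM.symm hV hU hVM hUM hAV hAU hMV hMU hV1 hU1 hH₁.toRS.symm
    (hVH.trans hle) (hUH.trans hle)
  obtain ⟨hAY, hHY, -⟩ := hc.core hH₁.toRS
  obtain ⟨hAZ, hHZ, -⟩ := hc.symm.core hH₁.toRS.symm
  have hY1 : Y ≠ ⊥ := fun h => hU1 (eq_bot_of_le_of_le hc.ne hU (isPGroup_pCoreOf s H₁)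
    ((le_inf (hUH.trans hle) hUZ).trans (cent_core_le (hc.solvable hH₁.toRS)
      (fun p hp hd => (hH₁.primes p hp hd).symm) h)))
  have hZ1 : Z ≠ ⊥ := fun h => hV1 (eq_bot_of_le_of_le hc.ne.symm hV (isPGroup_pCoreOf r H₁)
    ((le_inf (hVH.trans hle) hVY).trans (cent_core_le (hc.solvable hH₁.toRS) hH₁.primes h)))
  set F := Cfsg.pCoreOf r M with hF
  set W := Cfsg.pCoreOf s M with hW
  obtain ⟨hAF, hMF, -⟩ := hc.core hM.toRS
  obtain ⟨hAW, hMW, -⟩ := hc.symm.core hM.toRS.symm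
  obtain ⟨hFH, hZF⟩ := hc.half hH₁ (isPGroup_pCoreOf r H₁) (isPGroup_pCoreOf s H₁) (pCoreOf_le r H₁)
    (pCoreOf_le s H₁) hAY hAZ hHY hHZ hY1 hZ1 hM.toRS hYM hZM
  obtain ⟨hWH, -⟩ := hc.symm.half hH₁.symm (isPGroup_pCoreOf s H₁) (isPGroup_pCoreOf r H₁)
    (pCoreOf_le s H₁) (pCoreOf_le r H₁) hAZ hAY hHZ hHY hZ1 hY1 hM.toRS.symm hZM hYM
  have hUF : U ≤ F := le_pCoreOf hUM hMU hU
  have hVW : V ≤ W := le_pCoreOf hVM hMV hV
  obtain ⟨-, hWY⟩ := hc.half hM (isPGroup_pCoreOf r M) (isPGroup_pCoreOf s M) (pCoreOf_le r M)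
    (pCoreOf_le s M) hAF hAW hMF hMW (fun h => hU1 (le_bot_iff.mp (h ▸ hUF)))
    (fun h => hV1 (le_bot_iff.mp (h ▸ hVW))) hH₁.toRS hFH hWH
  have hYF : Y ≤ F := le_core_of_cent hc.min.toFpf hc.min.op hc.ne hM.le hM.inv
    (hc.solvable hM.toRS) hM.primes hYM (isPGroup_pCoreOf r H₁) (le_centralizer_iff.mp hWY)
  have hFY : F ≤ Y := le_core_of_cent hc.min.toFpf hc.min.op hc.ne hH₁.le hH₁.inv
    (hc.solvable hH₁.toRS) hH₁.primes hFH (isPGroup_pCoreOf r M) (le_centralizer_iff.mp hZF)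
  have he : Y = F := le_antisymm hYF hFY
  exact hle.trans (hc.le_max_of_norm hM hYM hAY (by show M ≤ normalizer (Y : Set X); rw [he]; exact hMF) hY1 hH₁.toRS hHY)

/-- The components at `d` do not both lie in `M`. -/
def Bad (P Q M : Subgroup X) (d : X) : Prop :=
  ¬ (P ⊓ centralizer {d} ≤ M ∧ Q ⊓ centralizer {d} ≤ M)

/-- At a bad `d` the `r`-core of a mixed maximal subgroup has no fixed points. -/
theorem core_free (hc : Cfg A G q r s P Q) {M : Subgroup X} (hM : MaxRS A G r s M)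
    (hW1 : Cfsg.pCoreOf s M ≠ ⊥) {d : X} (hd : d ∈ A) (hd1 : d ≠ 1) (hbad : Bad P Q M d) :
    ∀ x ∈ Cfsg.pCoreOf r M, d * x = x * d → x = 1 := by
  by_contra hcon
  push Not at hcon
  obtain ⟨x, hx, hxd, hx1⟩ := hcon
  set F := Cfsg.pCoreOf r M with hF
  set W := Cfsg.pCoreOf s M with hW
  obtain ⟨hAF, hMF, hFP⟩ := hc.core hM.toRS
  obtain ⟨hAW, hMW, -⟩ := hc.symm.core hM.toRS.symm
  set R := F ⊓ centralizer {d} with hR
  have hRne : R ≠ ⊥ := fun h =>
    hx1 (mem_bot.mp (h ▸ (show x ∈ R from ⟨hx, mem_cent_singleton.mpr hxd⟩)))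
  have hFG : F ≤ G := (pCoreOf_le r M).trans hM.le
  have hAR : A ≤ normalizer (R : Set X) :=
    inf_cent_le_normalizer hc.min.op.comm hAF (by simpa using hd)
  set L := G ⊓ centralizer (R : Set X) with hL
  have hAL : A ≤ normalizer (L : Set X) :=
    Coprime.le_normalizer_inf hc.min.norm (Coprime.le_normalizer_centralizer hAR)
  have hLne : L ≠ G := fun h => hc.min.normalizer_ne (inf_le_left.trans hFG) hAR hRne
    (Min.isSolvable_pgroup ((isPGroup_pCoreOf r M).to_le inf_le_left))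
    (inf_eq_left.mpr ((inf_eq_left.mp h).trans (centralizer_le_normalizer _)))
  obtain ⟨Hl, hHl, -, hall⟩ := hc.exists_hall (inf_le_left : L ≤ G) hAL hLne
  set Z := F ⊓ centralizer (F : Set X) with hZ
  have hAZ : A ≤ normalizer (Z : Set X) :=
    Coprime.le_normalizer_inf hAF (Coprime.le_normalizer_centralizer hAF)
  have hZH : Z ≤ Hl := hall Z
    (RS.of_pgroup (inf_le_left.trans hFG) hAZ ((isPGroup_pCoreOf r M).to_le inf_le_left))
    (le_inf (inf_le_left.trans hFG) (inf_le_right.trans (centralizer_le inf_le_left)))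
  have hWH : W ≤ Hl := hall W
    (RS.of_pgroup' ((pCoreOf_le s M).trans hM.le) hAW (isPGroup_pCoreOf s M))
    (le_inf ((pCoreOf_le s M).trans hM.le) fun w hw => mem_centralizer_iff.mpr fun y hy =>
      commute_of_normalized ((pCoreOf_le r M).trans hMW) ((pCoreOf_le s M).trans hMF)
        (coprime_of_isPGroup hc.ne (isPGroup_pCoreOf r M) (isPGroup_pCoreOf s M)) hy.1 hw)
  have hcd : ∀ K : Subgroup X, RS A G r s K → K ⊓ centralizer {d} ≤ Hl := fun K hK =>
    hall _ (hK.mono inf_le_left (inf_cent_le_normalizer hc.min.op.comm hK.inv (by simpa using hd)))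
      fun y hy => ⟨hK.le hy.1, mem_centralizer_iff.mpr fun z hz =>
        hc.min.ab d hd hd1 z (hFG hz.1) (mem_cent_singleton.mp hz.2) y (hK.le hy.1)
          (mem_cent_singleton.mp hy.2)⟩
  have hHM : Hl ≤ M := hc.uniq hM ((isPGroup_pCoreOf r M).to_le inf_le_left) (isPGroup_pCoreOf s M)
    (inf_le_left.trans (pCoreOf_le r M)) (pCoreOf_le s M) hAZ hAW
    (Coprime.le_normalizer_inf hMF (Coprime.le_normalizer_centralizer hMF)) hMW
    (center_ne_bot (isPGroup_pCoreOf r M) fun h => hRne (le_bot_iff.mp (h ▸ inf_le_left)))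
    hW1 hHl hZH hWH
  exact hbad ⟨(hcd P hc.rsP).trans hHM, (hcd Q hc.rsQ).trans hHM⟩

/-- At a bad `d`, the `s`-part of a mixed maximal subgroup is all of `Q`. -/
theorem mixed_le (hc : Cfg A G q r s P Q) {M : Subgroup X} (hM : MaxRS A G r s M)
    (hF1 : Cfsg.pCoreOf r M ≠ ⊥) (hW1 : Cfsg.pCoreOf s M ≠ ⊥) {d : X} (hd : d ∈ A)
    (hd1 : d ≠ 1) (hbad : Bad P Q M d) : Q ≤ M := by
  set F := Cfsg.pCoreOf r M with hF
  set W := Cfsg.pCoreOf s M with hW
  obtain ⟨hAF, hMF, -⟩ := hc.core hM.toRS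
  obtain ⟨hAW, hMW, hWQ⟩ := hc.symm.core hM.toRS.symm
  have hbad' : ∀ e : X, Bad P Q M e → Bad Q P M e := fun e h h' => h ⟨h'.2, h'.1⟩
  have hFfree := hc.core_free hM hW1 hd hd1 hbad
  have hWfree := hc.symm.core_free hM.symm hF1 hd hd1 (hbad' d hbad)
  set Y := M ⊓ Q with hY
  have hAY : A ≤ normalizer (Y : Set X) := Coprime.le_normalizer_inf hM.inv hc.sylQ.inv
  have hYG : Y ≤ G := inf_le_left.trans hM.le
  have hWY : W ≤ Y := le_inf (pCoreOf_le s M) hWQ
  -- components outside the line of a bad element lie in the core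
  have hcomp : ∀ e ∈ A, e ≠ 1 → Bad P Q M e → ∀ b ∈ A, b ∉ zpowers e → ∀ y ∈ Y,
      b * y = y * b → y ∈ W := by
    intro e he he1 hbe b hb hbne y hy hyb
    have hAN : A ≤ normalizer ((Y ⊓ centralizer {b} : Subgroup X) : Set X) :=
      inf_cent_le_normalizer hc.min.op.comm hAY (by simpa using hb)
    have hcent : Y ⊓ centralizer {b} ≤ centralizer (F : Set X) := fun z hz =>
      mem_centralizer_iff.mpr fun f hf => commute_of_fpf hc.min.op he he1
        (V := F) (N := Y ⊓ centralizer {b}) (hAF he) (hAN he)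
        ((inf_le_left.trans inf_le_left).trans hMF)
        (coprime_of_isPGroup hc.ne (isPGroup_pCoreOf r M)
          (hc.sylQ.isP.to_le (inf_le_left.trans inf_le_right)))
        (hc.core_free hM hW1 he he1 hbe)
        (fun w hw hwe => hc.min.toFpf.fix_pair hc.min.op he he1 hb hbne (hYG hw.1) hwe
          (mem_cent_singleton.mp hw.2))
        hf hz
    exact le_core_of_cent hc.min.toFpf hc.min.op hc.ne.symm hM.le hM.inv
      (hc.solvable hM.toRS) (fun p hp h => (hM.primes p hp h).symm)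
      (inf_le_left.trans inf_le_left) (hc.sylQ.isP.to_le (inf_le_left.trans inf_le_right)) hcent
      ⟨hy, mem_cent_singleton.mpr hyb⟩
  have hdec : Y ≤ W ⊔ (Y ⊓ centralizer {d}) :=
    le_of_cent hc.min.op hAY (hc.min.cop.coprime_dvd_right (card_dvd_of_le hYG))
      fun b hb hb1 y hy hyb => by
        rcases hc.min.op.centralizes_or hd hb hb1 with h | h
        · exact mem_sup_left (hcomp d hd hd1 hbad b hb h y hy hyb)
        · exact mem_sup_right ⟨hy, mem_cent_singleton.mpr (h y hyb)⟩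
  have hdW : zpowers d ≤ normalizer (W : Set X) := zpowers_le.mpr (hAW hd)
  have hbr : ⁅Y, zpowers d⁆ = W := by
    refine le_antisymm (commutator_le.mpr fun y hy g hg => ?_) ?_
    · obtain ⟨w, hw, c, hcc, rfl⟩ := Coprime.exists_mul_of_mem_sup
        ((inf_le_left : Y ⊓ centralizer {d} ≤ Y).trans (inf_le_left.trans hMW)) (hdec hy)
      have hcg : Commute c g := by
        obtain ⟨i, rfl⟩ := mem_zpowers_iff.mp hg
        exact (Commute.zpow_left (mem_cent_singleton.mp hcc.2) i).symm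
      have e : ⁅w * c, g⁆ = w * (g * w⁻¹ * g⁻¹) := by
        calc ⁅w * c, g⁆ = w * (c * g) * c⁻¹ * w⁻¹ * g⁻¹ := by rw [commutatorElement_def]; group
          _ = w * (g * c) * c⁻¹ * w⁻¹ * g⁻¹ := by rw [hcg.eq]
          _ = _ := by group
      rw [e]
      exact mul_mem hw (Coprime.conj_mem_of_mem_normalizer (hdW hg) (inv_mem hw))
    · have hcop : (Nat.card (zpowers d)).Coprime (Nat.card W) :=
        (hc.min.cop.coprime_dvd_left (card_dvd_of_le (zpowers_le.mpr hd))).coprime_dvd_right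
          (card_dvd_of_le ((pCoreOf_le s M).trans hM.le))
      intro w hw
      obtain ⟨x, hx, c, hcc, e⟩ := Coprime.exists_commutator_mul_centralizer (zpowers d) W hdW hcop
        (Or.inr (Min.isSolvable_pgroup (isPGroup_pCoreOf s M))) w hw
      rw [hWfree c hcc.1 (mem_centralizer_iff.mp hcc.2 d (mem_zpowers d)), mul_one] at e
      exact e ▸ commutator_mono hWY le_rfl hx
  set Y₂ := Q ⊓ normalizer (Y : Set X) with hY₂
  have hAY₂ : A ≤ normalizer (Y₂ : Set X) :=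
    Coprime.le_normalizer_inf hc.sylQ.inv (Coprime.le_normalizer_normalizer hAY)
  have hNW : ∀ x ∈ Q, x ∈ normalizer (W : Set X) → x ∈ M := fun x hx hxW =>
    hc.le_max_of_norm hM (pCoreOf_le s M) hAW hMW hW1
      (hc.rsQ.mono inf_le_left
        (Coprime.le_normalizer_inf hc.sylQ.inv (Coprime.le_normalizer_normalizer hAW)))
      inf_le_right (show x ∈ Q ⊓ normalizer (W : Set X) from ⟨hx, hxW⟩)
  have hY₂M : Y₂ ≤ M :=
    le_of_cent hc.min.op hAY₂
      (hc.min.cop.coprime_dvd_right (card_dvd_of_le (inf_le_left.trans hc.sylQ.le)))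
      fun b hb hb1 y hy hyb => by
        rcases hc.min.op.centralizes_or hd hb hb1 with h | h
        · by_cases hgood : Q ⊓ centralizer {b} ≤ M
          · exact hgood ⟨hy.1, mem_cent_singleton.mpr hyb⟩
          · have hbb : Bad P Q M b := fun h' => hgood h'.2
            have hYW : Y = W := le_antisymm (hdec.trans (sup_le le_rfl fun z hz =>
              hcomp b hb hb1 hbb d hd (hc.min.op.notMem_symm hb h hd hd1) z hz.1
                (mem_cent_singleton.mp hz.2))) hWY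
            exact hNW y hy.1 (hYW ▸ hy.2)
        · refine hNW y hy.1 ?_
          rw [← hbr]
          refine le_normalizer_comm (B := zpowers y) (zpowers_le.mpr hy.2) ?_ (mem_zpowers y)
          refine zpowers_le.mpr (centralizer_le_normalizer _ (mem_centralizer_iff.mpr fun g hg => ?_))
          obtain ⟨i, rfl⟩ := mem_zpowers_iff.mp hg
          exact (Commute.zpow_left (h y hyb) i).eq
  have hYQ : Y = Q := eq_of_normalizer_le hc.sylQ.isP inf_le_right (le_inf hY₂M inf_le_left)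
  exact hYQ ▸ inf_le_left

/-- No maximal subgroup is mixed. -/
theorem not_mixed (hc : Cfg A G q r s P Q) {M : Subgroup X} (hM : MaxRS A G r s M)
    (hF1 : Cfsg.pCoreOf r M ≠ ⊥) (hW1 : Cfsg.pCoreOf s M ≠ ⊥) : False := by
  by_cases h : ∃ d ∈ A, d ≠ 1 ∧ Bad P Q M d
  · obtain ⟨d, hd, hd1, hbad⟩ := h
    exact hc.no M hM.toRS
      (hc.symm.mixed_le hM.symm hW1 hF1 hd hd1 fun h' => hbad ⟨h'.2, h'.1⟩)
      (hc.mixed_le hM hF1 hW1 hd hd1 hbad)
  · have h' : ∀ b ∈ A, b ≠ 1 → P ⊓ centralizer {b} ≤ M ∧ Q ⊓ centralizer {b} ≤ M :=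
      fun b hb hb1 => by_contra fun hn => h ⟨b, hb, hb1, hn⟩
    refine hc.no M hM.toRS ?_ ?_
    · exact le_of_cent hc.min.op hc.sylP.inv
        (hc.min.cop.coprime_dvd_right (card_dvd_of_le hc.sylP.le))
        fun b hb hb1 x hx hxb => (h' b hb hb1).1 ⟨hx, mem_cent_singleton.mpr hxb⟩
    · exact le_of_cent hc.min.op hc.sylQ.inv
        (hc.min.cop.coprime_dvd_right (card_dvd_of_le hc.sylQ.le))
        fun b hb hb1 x hx hxb => (h' b hb hb1).2 ⟨hx, mem_cent_singleton.mpr hxb⟩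

/-- The maximal subgroup containing `P`. -/
theorem exists_maxP (hc : Cfg A G q r s P Q) :
    ∃ M, MaxRS A G r s M ∧ P ≤ M ∧ M ≤ normalizer (P : Set X) := by
  obtain ⟨M, hM, hle⟩ := hc.exists_max hc.rsP
  by_cases h : Cfsg.pCoreOf s M = ⊥
  · exact ⟨M, hM, hc.pure_max hM h⟩
  by_cases h' : Cfsg.pCoreOf r M = ⊥
  · exact absurd (hc.symm.pure_max hM.symm h').1 (hc.no M hM.toRS hle)
  exact (hc.not_mixed hM h' h).elim

/-- Every invariant `{r, s}`-subgroup is in one of two. -/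
theorem le_MP_or_MQ (hc : Cfg A G q r s P Q) {MP MQ : Subgroup X} (hMP : MaxRS A G r s MP)
    (hP : P ≤ MP) (hPn : MP ≤ normalizer (P : Set X)) (hMQ : MaxRS A G r s MQ) (hQ : Q ≤ MQ)
    (hQn : MQ ≤ normalizer (Q : Set X)) {H : Subgroup X} (hH : RS A G r s H) :
    H ≤ MP ∨ H ≤ MQ := by
  obtain ⟨M, hM, hle⟩ := hc.exists_max hH
  by_cases h : Cfsg.pCoreOf s M = ⊥
  · exact Or.inl (hle.trans (hc.le_max_of_norm hMP hP hc.sylP.inv hPn hc.ne_bot hM.toRS
      (hc.pure_max hM h).2))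
  by_cases h' : Cfsg.pCoreOf r M = ⊥
  · exact Or.inr (hle.trans (hc.le_max_of_norm hMQ hQ hc.sylQ.inv hQn hc.symm.ne_bot hM.toRS
      (hc.symm.pure_max hM.symm h').2))
  exact (hc.not_mixed hM h' h).elim

/-- The data of the remaining case. -/
structure Two (hc : Cfg A G q r s P Q) (MP MQ : Subgroup X) : Prop where
  maxP : MaxRS A G r s MP
  leP : P ≤ MP
  nP : MP ≤ normalizer (P : Set X)
  maxQ : MaxRS A G r s MQ
  leQ : Q ≤ MQ
  nQ : MQ ≤ normalizer (Q : Set X)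

variable {hc : Cfg A G q r s P Q} {MP MQ : Subgroup X}

theorem Two.symm (t : Two hc MP MQ) : Two hc.symm MQ MP :=
  ⟨t.maxQ.symm, t.leQ, t.nQ, t.maxP.symm, t.leP, t.nP⟩

/-- `P` acts faithfully on `Q`. -/
theorem Two.cent_bot (t : Two hc MP MQ) {x : X} (hx : x ∈ P) (hxQ : x ∈ centralizer (Q : Set X)) :
    x = 1 := by
  have hxM : x ∈ MQ := hc.le_max_of_norm t.maxQ t.leQ hc.sylQ.inv t.nQ hc.symm.ne_bot
    (hc.rsP.mono inf_le_left
      (Coprime.le_normalizer_inf hc.sylP.inv (Coprime.le_normalizer_centralizer hc.sylQ.inv)))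
    (fun y hy => centralizer_le_normalizer _ hy.2)
    (show x ∈ P ⊓ centralizer (Q : Set X) from ⟨hx, hxQ⟩)
  have hr : Cfsg.pCoreOf r MQ = ⊥ := by
    by_contra h
    by_cases h' : Cfsg.pCoreOf s MQ = ⊥
    · exact hc.no MQ t.maxQ.toRS (hc.pure_max t.maxQ h').1 t.leQ
    · exact hc.not_mixed t.maxQ h h'
  have hWQ : Cfsg.pCoreOf s MQ ≤ Q := (hc.symm.core t.maxQ.toRS.symm).2.2
  exact Coprime.inf_eq_bot_of_coprime' (coprime_of_isPGroup hc.ne hc.sylP.isP hc.sylQ.isP) hx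
    (hWQ (cent_core_le (hc.solvable t.maxQ.toRS) (fun p hp h => (t.maxQ.primes p hp h).symm) hr
      ⟨hxM, centralizer_le hWQ hxQ⟩))

/-- `MP ⊓ Q` and `MQ ⊓ P` commute. -/
theorem Two.comm (t : Two hc MP MQ) {k x : X} (hk : k ∈ MP ⊓ Q) (hx : x ∈ MQ ⊓ P) :
    k * x = x * k :=
  commute_of_normalized (U := MP ⊓ Q) (V := MQ ⊓ P)
    (Coprime.le_normalizer_of_conj_mem fun a ha b hb =>
      mem_inf.mpr ⟨mul_mem (mul_mem (t.leQ ha.2) hb.1) (inv_mem (t.leQ ha.2)),
        Coprime.conj_mem_of_mem_normalizer (t.nP ha.1) hb.2⟩)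
    (Coprime.le_normalizer_of_conj_mem fun a ha b hb =>
      mem_inf.mpr ⟨mul_mem (mul_mem (t.leP ha.2) hb.1) (inv_mem (t.leP ha.2)),
        Coprime.conj_mem_of_mem_normalizer (t.nQ ha.1) hb.2⟩)
    (coprime_of_isPGroup hc.ne.symm (hc.sylQ.isP.to_le inf_le_right)
      (hc.sylP.isP.to_le inf_le_right)) hk hx

/-- For each line, one of the components lies in the relevant intersection. -/
theorem Two.dichotomy (t : Two hc MP MQ) {c : X} (hcA : c ∈ A) (hc1 : c ≠ 1) :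
    Q ⊓ centralizer {c} ≤ MP ∨ P ⊓ centralizer {c} ≤ MQ := by
  set L := G ⊓ centralizer {c} with hL
  have hAL : A ≤ normalizer (L : Set X) :=
    inf_cent_le_normalizer hc.min.op.comm hc.min.norm (by simpa using hcA)
  have hne : L ≠ G := fun h => hc.min.nsol (Group.isSolvable_of_comm fun a b => Subtype.ext
    (hc.min.ab c hcA hc1 a a.2 (mem_cent_singleton.mp (inf_eq_left.mp h a.2)) b b.2
      (mem_cent_singleton.mp (inf_eq_left.mp h b.2))))
  obtain ⟨Hl, hHl, -, hall⟩ := hc.exists_hall (inf_le_left : L ≤ G) hAL hne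
  have hK : ∀ K, RS A G r s K → K ⊓ centralizer {c} ≤ Hl := fun K hK => hall _
    (hK.mono inf_le_left (inf_cent_le_normalizer hc.min.op.comm hK.inv (by simpa using hcA)))
    fun y hy => ⟨hK.le hy.1, hy.2⟩
  rcases hc.le_MP_or_MQ t.maxP t.leP t.nP t.maxQ t.leQ t.nQ hHl with h | h
  · exact Or.inl ((hK Q hc.rsQ).trans h)
  · exact Or.inr ((hK P hc.rsP).trans h)

/-- Half of the first case. -/
theorem Two.case_one (t : Two hc MP MQ) {e : X} (he : e ∈ A) (he1 : e ≠ 1)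
    (heK : ¬ Q ⊓ centralizer {e} ≤ MP) (heP : P ⊓ centralizer {e} ≠ ⊥) :
    ∃ a ∈ A, a ≠ 1 ∧ ∀ c ∈ A, c ∉ zpowers a → P ⊓ centralizer {c} ≤ MQ ∧
      ¬ Q ⊓ centralizer {c} ≤ MP := by
  have hG := hc.min.toFpf
  have hO := hc.min.op
  set ZP := P ⊓ centralizer (P : Set X) with hZP
  have hAZ : A ≤ normalizer (ZP : Set X) :=
    Coprime.le_normalizer_inf hc.sylP.inv (Coprime.le_normalizer_centralizer hc.sylP.inv)
  have hproper : ∀ R : Subgroup X, R ≤ P → A ≤ normalizer (R : Set X) → R ≠ ⊥ →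
      G ⊓ centralizer (R : Set X) ≠ G := fun R hRP hAR hR1 h =>
    hc.min.normalizer_ne (hRP.trans hc.sylP.le) hAR hR1
      (Min.isSolvable_pgroup (hc.sylP.isP.to_le hRP))
      (inf_eq_left.mpr ((inf_eq_left.mp h).trans (centralizer_le_normalizer _)))
  have hinv : ∀ (K : Subgroup X), A ≤ normalizer (K : Set X) → ∀ c ∈ A,
      A ≤ normalizer ((K ⊓ centralizer {c} : Subgroup X) : Set X) := fun K hK c hc' =>
    inf_cent_le_normalizer hO.comm hK (by simpa using hc')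
  -- `Z(P) ≤ MQ`
  have hZM : ZP ≤ MQ := by
    have hAR := hinv P hc.sylP.inv e he
    obtain ⟨Hl, hHl, -, hall⟩ := hc.exists_hall (L := G ⊓ centralizer
        ((P ⊓ centralizer {e} : Subgroup X) : Set X)) inf_le_left
      (Coprime.le_normalizer_inf hc.min.norm (Coprime.le_normalizer_centralizer hAR))
      (hproper _ inf_le_left hAR heP)
    have h1 : ZP ≤ Hl := hall _ (hc.rsP.mono inf_le_left hAZ)
      (le_inf (inf_le_left.trans hc.sylP.le) (inf_le_right.trans (centralizer_le inf_le_left)))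
    have h2 : Q ⊓ centralizer {e} ≤ Hl :=
      hall _ (hc.rsQ.mono inf_le_left (hinv Q hc.sylQ.inv e he))
        fun y hy => ⟨hc.sylQ.le hy.1, mem_centralizer_iff.mpr fun z hz =>
          hc.min.ab e he he1 z (hc.sylP.le hz.1) (mem_cent_singleton.mp hz.2) y
            (hc.sylQ.le hy.1) (mem_cent_singleton.mp hy.2)⟩
    rcases hc.le_MP_or_MQ t.maxP t.leP t.nP t.maxQ t.leQ t.nQ hHl with h | h
    · exact absurd (h2.trans h) heK
    · exact h1.trans h
  obtain ⟨a, ha, ha1, hR1⟩ : ∃ a ∈ A, a ≠ 1 ∧ ZP ⊓ centralizer {a} ≠ ⊥ := by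
    by_contra hcon
    push Not at hcon
    refine center_ne_bot hc.sylP.isP hc.ne_bot (le_bot_iff.mp (le_of_cent hO hAZ
      (hc.min.cop.coprime_dvd_right (card_dvd_of_le (inf_le_left.trans hc.sylP.le))) ?_))
    exact fun b hb hb1 x hx hxb =>
      hcon b hb hb1 ▸ (show x ∈ ZP ⊓ centralizer {b} from ⟨hx, mem_cent_singleton.mpr hxb⟩)
  set R := ZP ⊓ centralizer {a} with hR
  have hRP : R ≤ P := inf_le_left.trans inf_le_left
  have hRT : R ≤ MQ ⊓ P := le_inf (inf_le_left.trans hZM) hRP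
  have hAR : A ≤ normalizer (R : Set X) := hinv ZP hAZ a ha
  refine ⟨a, ha, ha1, fun c hcA hca => ?_⟩
  have hc1 : c ≠ 1 := fun h => hca (h ▸ one_mem _)
  suffices h : ¬ Q ⊓ centralizer {c} ≤ MP from ⟨(t.dichotomy hcA hc1).resolve_left h, h⟩
  intro hcK
  refine hR1 (eq_bot_iff.mpr fun x hx => mem_bot.mpr (t.cent_bot (hRP hx) ?_))
  exact cent_of_cent_fixed hG.toGood hO hcA hc1 hc.sylQ.isP hc.sylQ.le hc.sylQ.inv (hAR hcA)
    ((hRT.trans inf_le_left).trans t.nQ)
    (coprime_of_isPGroup hc.ne (hc.sylP.isP.to_le hRP) hc.sylQ.isP)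
    (fun y hy hyc => hG.fix_pair hO ha ha1 hcA hca (hc.sylP.le (hRP hy))
      (mem_cent_singleton.mp hy.2) hyc)
    (fun y hy z hz hzc =>
      (t.comm ⟨hcK ⟨hz, mem_cent_singleton.mpr hzc⟩, hz⟩ (hRT hy)).symm) hx

/-- The second case. -/
theorem Two.case_two (t : Two hc MP MQ)
    (h : ∀ e ∈ A, e ≠ 1 → ¬ Q ⊓ centralizer {e} ≤ MP → P ⊓ centralizer {e} = ⊥) :
    ∀ c ∈ A, c ≠ 1 → P ⊓ centralizer {c} = ⊥ ∨ Q ⊓ centralizer {c} = ⊥ := by
  have hG := hc.min.toFpf
  have hO := hc.min.op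
  intro c hcA hc1
  by_cases hcK : Q ⊓ centralizer {c} ≤ MP
  swap
  · exact Or.inl (h c hcA hc1 hcK)
  refine Or.inr (eq_bot_iff.mpr fun x hx => mem_bot.mpr ?_)
  obtain ⟨e, he, he1, heK⟩ : ∃ e ∈ A, e ≠ 1 ∧ ¬ Q ⊓ centralizer {e} ≤ MP := by
    by_contra hcon
    push Not at hcon
    exact hc.no MP t.maxP.toRS t.leP (le_of_cent hO hc.sylQ.inv
      (hc.min.cop.coprime_dvd_right (card_dvd_of_le hc.sylQ.le))
      fun b hb hb1 y hy hyb => hcon b hb hb1 ⟨hy, mem_cent_singleton.mpr hyb⟩)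
  have hePfree : ∀ y ∈ P, e * y = y * e → y = 1 := fun y hy hye =>
    mem_bot.mp (h e he he1 heK ▸
      (show y ∈ P ⊓ centralizer {e} from ⟨hy, mem_cent_singleton.mpr hye⟩))
  set K := MP ⊓ Q with hK
  have hAK : A ≤ normalizer (K : Set X) := Coprime.le_normalizer_inf t.maxP.inv hc.sylQ.inv
  have hKG : K ≤ G := inf_le_left.trans t.maxP.le
  have hKe : K ≤ centralizer {e} :=
    le_of_cent hO hAK (hc.min.cop.coprime_dvd_right (card_dvd_of_le hKG)) fun b hb hb1 y hy hyb => by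
      rcases hO.centralizes_or he hb hb1 with hbe | hbe
      · have hAN : A ≤ normalizer ((K ⊓ centralizer {b} : Subgroup X) : Set X) :=
          inf_cent_le_normalizer hO.comm hAK (by simpa using hb)
        have hy1 : y = 1 := t.symm.cent_bot hy.2 (mem_centralizer_iff.mpr fun p hp =>
          commute_of_fpf hO he he1 (V := P) (N := K ⊓ centralizer {b}) (hc.sylP.inv he) (hAN he)
            ((inf_le_left.trans inf_le_left).trans t.nP)
            (coprime_of_isPGroup hc.ne hc.sylP.isP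
              (hc.sylQ.isP.to_le (inf_le_left.trans inf_le_right)))
            hePfree
            (fun w hw hwe => hG.fix_pair hO he he1 hb hbe (hKG hw.1) hwe
              (mem_cent_singleton.mp hw.2))
            hp ⟨hy, mem_cent_singleton.mpr hyb⟩)
        rw [hy1]
        exact one_mem _
      · exact mem_cent_singleton.mpr (hbe y hyb)
  have hxe : e * x = x * e := mem_cent_singleton.mp (hKe ⟨hcK hx, hx.1⟩)
  by_cases hce : c ∈ zpowers e
  · refine absurd (fun z (hz : z ∈ Q ⊓ centralizer {e}) => hcK ⟨hz.1, mem_cent_singleton.mpr ?_⟩) heK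
    obtain ⟨i, rfl⟩ := mem_zpowers_iff.mp hce
    exact (Commute.zpow_left (mem_cent_singleton.mp hz.2) i).eq
  · exact hG.fix_pair hO he he1 hcA hce (hc.sylQ.le hx.1) hxe (mem_cent_singleton.mp hx.2)

/-- If only one component is nontrivial on each line, then `r = 2`. -/
theorem eq_two (hc : Cfg A G q r s P Q)
    (h : ∀ c ∈ A, c ≠ 1 → P ⊓ centralizer {c} = ⊥ ∨ Q ⊓ centralizer {c} = ⊥) : r = 2 := by
  by_contra hr
  have hG := hc.min.toFpf
  have hO := hc.min.op
  have hfree : ∀ d ∈ A, d ≠ 1 → Q ⊓ centralizer {d} ≠ ⊥ → ∀ x ∈ P, d * x = x * d → x = 1 :=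
    fun d hd hd1 hne x hx hxd => mem_bot.mp ((h d hd hd1).resolve_right hne ▸
      (show x ∈ P ⊓ centralizer {d} from ⟨hx, mem_cent_singleton.mpr hxd⟩))
  have hQcop := hc.min.cop.coprime_dvd_right (card_dvd_of_le hc.sylQ.le)
  obtain ⟨d, hd, hd1, hdQ⟩ : ∃ d ∈ A, d ≠ 1 ∧ Q ⊓ centralizer {d} ≠ ⊥ := by
    by_contra hcon
    push Not at hcon
    exact hc.symm.ne_bot (le_bot_iff.mp (le_of_cent hO hc.sylQ.inv hQcop fun b hb hb1 x hx hxb =>
      hcon b hb hb1 ▸ (show x ∈ Q ⊓ centralizer {b} from ⟨hx, mem_cent_singleton.mpr hxb⟩)))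
  by_cases h2 : ∃ e ∈ A, e ∉ zpowers d ∧ Q ⊓ centralizer {e} ≠ ⊥
  · obtain ⟨e, he, hed, heQ⟩ := h2
    exact hc.min.no_free_pair hr hc.sylP hc.ne_bot hd hd1 he hed (hfree d hd hd1 hdQ)
      (hfree e he (fun e1 => hed (e1 ▸ one_mem _)) heQ)
  · push Not at h2
    refine hc.min.not_le_cent hc.sylQ hc.symm.ne_bot hd hd1 fun x hx => mem_cent_singleton.mp
      (le_of_cent hO hc.sylQ.inv hQcop (H := centralizer {d}) (fun b hb hb1 y hy hyb => ?_) hx)
    rcases hO.centralizes_or hd hb hb1 with hbd | hbd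
    · have hh : y ∈ (⊥ : Subgroup X) := h2 b hb hbd ▸
        (show y ∈ Q ⊓ centralizer {b} from ⟨hy, mem_cent_singleton.mpr hyb⟩)
      rw [mem_bot.mp hh]
      exact one_mem _
    · exact mem_cent_singleton.mpr (hbd y hyb)

/-- Some line has both components nontrivial. -/
theorem no_dichotomy (hc : Cfg A G q r s P Q)
    (h : ∀ c ∈ A, c ≠ 1 → P ⊓ centralizer {c} = ⊥ ∨ Q ⊓ centralizer {c} = ⊥) : False :=
  hc.ne ((hc.eq_two h).trans (hc.symm.eq_two fun c hcA hc1 => (h c hcA hc1).symm).symm)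

/-- The configuration does not exist. -/
theorem false (hc : Cfg A G q r s P Q) : False := by
  have hG := hc.min.toFpf
  have hO := hc.min.op
  obtain ⟨MP, hMP, hP, hPn⟩ := hc.exists_maxP
  obtain ⟨MQ, hMQ, hQ, hQn⟩ := hc.symm.exists_maxP
  have t : Two hc MP MQ := ⟨hMP, hP, hPn, hMQ.symm, hQ, hQn⟩
  by_cases h1 : ∀ e ∈ A, e ≠ 1 → ¬ Q ⊓ centralizer {e} ≤ MP → P ⊓ centralizer {e} = ⊥
  swap
  · push Not at h1
    obtain ⟨e, he, he1, heK, heP⟩ := h1
    by_cases h2 : ∀ e ∈ A, e ≠ 1 → ¬ P ⊓ centralizer {e} ≤ MQ → Q ⊓ centralizer {e} = ⊥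
    swap
    · push Not at h2
      obtain ⟨e', he', he'1, he'K, he'Q⟩ := h2
      obtain ⟨a, ha, ha1, h3⟩ := t.case_one he he1 heK heP
      obtain ⟨b, hb, hb1, h4⟩ := t.symm.case_one he' he'1 he'K he'Q
      obtain ⟨c, hcA, hca, hcb⟩ : ∃ c ∈ A, c ∉ zpowers a ∧ c ∉ zpowers b := by
        by_cases hba : b ∈ zpowers a
        · obtain ⟨c, hcA, hca⟩ := hO.exists_notMem a
          exact ⟨c, hcA, hca, fun h => hca (zpowers_le.mpr hba h)⟩
        · refine ⟨a * b, mul_mem ha hb, fun h => hba ?_,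
            fun h => hO.notMem_symm hb hba ha ha1 ?_⟩
          · simpa using mul_mem (inv_mem (mem_zpowers a)) h
          · simpa using mul_mem h (inv_mem (mem_zpowers b))
      exact (h4 c hcA hcb).2 (h3 c hcA hca).1
    exact hc.no_dichotomy fun c hcA hc1 => (t.symm.case_two h2 c hcA hc1).symm
  exact hc.no_dichotomy (t.case_two h1)

end Cfg

end Cfsg.Agent.FG78.Ab4323
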