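import Cfsg.Agent.FG78.Abelian4323.Cases
import Cfsg.Agent.S0021

/-!
The induction for S4323.
-/

set_option autoImplicit false
set_option linter.unusedSectionVars false

namespace Cfsg.Agent.FG78.Ab4323

open Subgroup
open scoped commutatorElement Pointwise

universe u

variable {X : Type u} [Group X] [Finite X] {A G : Subgroup X} {q : ℕ}

/-- Two invariant Sylow subgroups of a minimal counterexample permute. -/
theorem Min.permute (hm : Min A G q) {r s : ℕ} [Fact r.Prime] [Fact s.Prime] (hne : r ≠ s)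
    {P Q : Subgroup X} (hP : InvSyl A G r P) (hQ : InvSyl A G s Q) {x y : X} (hx : x ∈ P)
    (hy : y ∈ Q) : ∃ y' ∈ Q, ∃ x' ∈ P, x * y = y' * x' := by
  obtain ⟨H, hH, hPH, hQH⟩ : ∃ H, RS A G r s H ∧ P ≤ H ∧ Q ≤ H := by
    by_contra hcon
    exact Cfg.false ⟨hm, hne, hP, hQ, fun H hH h1 h2 => hcon ⟨H, hH, h1, h2⟩⟩
  have hcop := coprime_of_isPGroup hne.symm hQ.isP hP.isP
  have hi : ∀ {t : ℕ} {T : Subgroup X}, InvSyl A G t T → T ≤ H → ¬ t ∣ T.relIndex H :=
    fun hT hTH h => hT.notDvd (h.trans (Dvd.intro _ (relIndex_mul_relIndex _ _ _ hTH hH.le)))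
  let f : Q × P → H := fun z => ⟨z.1 * z.2, mul_mem (hQH z.1.2) (hPH z.2.2)⟩
  have hinj : Function.Injective f := fun a b hab => by
    have e : (a.1 : X) * a.2 = b.1 * b.2 := congrArg Subtype.val hab
    have h1 : (b.1 : X)⁻¹ * a.1 = b.2 * (a.2 : X)⁻¹ := by
      rw [eq_mul_inv_iff_mul_eq, mul_assoc, e, inv_mul_cancel_left]
    have h2 : (b.1 : X)⁻¹ * a.1 = 1 := Coprime.inf_eq_bot_of_coprime' hcop
      (mul_mem (inv_mem b.1.2) a.1.2) (h1 ▸ mul_mem b.2.2 (inv_mem a.2.2))
    have h3 : (b.1 : X) = a.1 := inv_mul_eq_one.mp h2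
    rw [h3] at e
    exact Prod.ext (Subtype.ext h3.symm) (Subtype.ext (mul_left_cancel e))
  have hcard : Nat.card H ≤ Nat.card (Q × P) := by
    rw [Nat.card_prod]
    have hP' := Solvable.card_mul_relIndex hPH
    have hQ' := Solvable.card_mul_relIndex hQH
    refine Nat.le_of_dvd (Nat.mul_pos Nat.card_pos Nat.card_pos) ?_
    have h1 : P.relIndex H ∣ Nat.card Q := by
      refine Nat.Coprime.dvd_of_dvd_mul_right (n := Q.relIndex H) ?_
        (hQ'.symm ▸ hP' ▸ dvd_mul_left _ _)
      refine Nat.coprime_of_dvd fun p hp hpP hpQ => ?_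
      rcases hH.primes p hp (hpP.trans (hP' ▸ dvd_mul_left _ _)) with h | h
      · exact hi hP hPH (h ▸ hpP)
      · exact hi hQ hQH (h ▸ hpQ)
    rw [← hP', mul_comm]
    exact Nat.mul_dvd_mul_right h1 _
  obtain ⟨⟨y', x'⟩, e⟩ := (hinj.bijective_of_nat_card_le hcard).2
    ⟨x * y, mul_mem (hPH hx) (hQH hy)⟩
  exact ⟨y', y'.2, x', x'.2, (congrArg Subtype.val e).symm⟩

/-- There is no minimal counterexample. -/
theorem Min.false (hm : Min A G q) : False := by
  have hex : ∀ p : Nat.Primes, ∃ P, InvSyl A G (p : ℕ) P := fun p => by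
    haveI := Fact.mk p.2
    exact exists_invSyl hm.op hm.norm hm.cop p
  choose P hP using hex
  have hS : ∀ p : Nat.Primes, ∃ S : Sylow (p : ℕ) G, (S : Subgroup G) = (P p).subgroupOf G :=
    fun p => by
      haveI := Fact.mk p.2
      exact ⟨((hP p).isP.of_equiv (subgroupOfEquivOfLe (hP p).le).symm).toSylow (hP p).notDvd, rfl⟩
  choose S hSe using hS
  refine hm.nsol (Agent.S0021.result S fun p p' => ?_)
  have hsub : ∀ p p' : Nat.Primes, (p : ℕ) ≠ p' →
      (S p : Set G) * (S p' : Set G) ⊆ (S p' : Set G) * (S p : Set G) := by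
    intro p p' hne
    haveI := Fact.mk p.2
    haveI := Fact.mk p'.2
    rintro _ ⟨x, hx, y, hy, rfl⟩
    have hx' : x ∈ (P p).subgroupOf G := hSe p ▸ hx
    have hy' : y ∈ (P p').subgroupOf G := hSe p' ▸ hy
    obtain ⟨b, hb, a, ha, e⟩ := hm.permute hne (hP p) (hP p') hx' hy'
    refine ⟨⟨b, (hP p').le hb⟩, ?_, ⟨a, (hP p).le ha⟩, ?_, Subtype.ext e.symm⟩
    · show (⟨b, (hP p').le hb⟩ : G) ∈ (S p' : Subgroup G)
      rw [hSe p']
      exact hb
    · show (⟨a, (hP p).le ha⟩ : G) ∈ (S p : Subgroup G)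
      rw [hSe p]
      exact ha
  by_cases hpp : p = p'
  · rw [hpp]
  · exact Set.Subset.antisymm (hsub p p' fun e => hpp (Subtype.ext e))
      (hsub p' p fun e => hpp (Subtype.ext e.symm))

theorem isSolvable_of_good (n : ℕ) : ∀ (X : Type u) [Group X] [Finite X] (A G : Subgroup X) (q : ℕ),
    Op A q → Good A G → Nat.card G = n → Group.IsSolvable G := by
  induction n using Nat.strong_induction_on with
  | _ n IH =>
  intro X _ _ A G q hO hG hn
  by_contra hns
  have hlt : ∀ {H : Subgroup X}, H ≤ G → H ≠ G → Nat.card H < n := fun {H} hH hne => hn ▸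
    lt_of_le_of_ne (card_le_of_le hH) fun e => hne (eq_of_le_of_card_ge hH e.ge)
  have hsub : ∀ H ≤ G, A ≤ normalizer (H : Set X) → H ≠ G → Group.IsSolvable H :=
    fun H hH hAH hne => IH _ (hlt hH hne) X A H q hO (hG.mono hH hAH) rfl
  have hsimp : ∀ N ≤ G, A ≤ normalizer (N : Set X) → G ≤ normalizer (N : Set X) → N ≠ ⊥ →
      N = G := by
    intro N hN hAN hGN hne
    by_contra hNG
    have hcard : Nat.card (secMap N G) < n := by
      have h1 : Nat.card (secMap N G) * Nat.card N ≤ Nat.card G := by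
        rw [← card_secPre]
        exact card_le_of_le (secPre_le hN le_rfl)
      rw [← hn]
      exact lt_of_lt_of_le (lt_mul_of_one_lt_right Nat.card_pos (N.one_lt_card_iff_ne_bot.mpr hne))
        h1
    exact hns (isSolvable_of_secMap hGN (hsub N hN hAN hNG) (IH _ hcard _ (secMap N A) (secMap N G) q
      (hO.sec hAN (hG.cop.coprime_dvd_right (card_dvd_of_le hN))) (hG.sec hO hN hAN) rfl))
  set C := G ⊓ centralizer (A : Set X) with hC
  have hcomm : ∀ c ∈ C, ∀ g ∈ G, c * g = g * c := by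
    intro c hc g hg
    have := le_of_cent hO (H := centralizer {c}) hG.norm hG.cop
      (fun b hb hb1 x hx hxb => mem_cent_singleton.mpr (hG.ab b hb hb1 c hc.1
        (mem_centralizer_iff.mp hc.2 b hb) x hx hxb)) hg
    exact mem_cent_singleton.mp this
  have hCbot : C = ⊥ := by
    by_contra hne
    have hAC : A ≤ normalizer (C : Set X) :=
      Coprime.le_normalizer_inf hG.norm (Coprime.le_normalizer_centralizer le_normalizer)
    have hGC : G ≤ normalizer (C : Set X) := Coprime.le_normalizer_of_conj_mem fun g hg c hc => by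
      rwa [← hcomm c hc g hg, mul_inv_cancel_right]
    have he := hsimp C inf_le_left hAC hGC hne
    exact hns (Group.isSolvable_of_comm fun a b =>
      Subtype.ext (hcomm a (by rw [he]; exact a.2) b b.2))
  exact Min.false
    { toGood := hG
      fix := fun x hx hxa => mem_bot.mp (hCbot ▸
        (show x ∈ C from ⟨hx, mem_centralizer_iff.mpr hxa⟩))
      op := hO
      simp := hsimp
      sub := hsub
      nsol := hns : Min A G q }

end Cfsg.Agent.FG78.Ab4323
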