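import Cfsg.Agent.FG78.Abelian4323.Pure
import Cfsg.Agent.Lib.PComplement.GlaubermanThompson
import Cfsg.Agent.S0017

/-!
A minimal non-soluble group for S4323: invariant Sylow subgroups, and the two obstructions to a
Sylow subgroup being centralised by, or acted on freely by, elements of `A`.
-/

set_option autoImplicit false
set_option linter.unusedSectionVars false

namespace Cfsg.Agent.FG78.Ab4323

open Subgroup
open scoped commutatorElement

universe u

/-- A minimal counterexample. -/
structure Min {X : Type u} [Group X] (A G : Subgroup X) (q : ℕ) : Prop extends Fpf A G where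
  op : Op A q
  simp : ∀ N ≤ G, A ≤ normalizer (N : Set X) → G ≤ normalizer (N : Set X) → N ≠ ⊥ → N = G
  sub : ∀ H ≤ G, A ≤ normalizer (H : Set X) → H ≠ G → Group.IsSolvable H
  nsol : ¬ Group.IsSolvable G

/-- An invariant Sylow subgroup. -/
structure InvSyl {X : Type u} [Group X] (A G : Subgroup X) (r : ℕ) (P : Subgroup X) : Prop where
  le : P ≤ G
  inv : A ≤ normalizer (P : Set X)
  isP : IsPGroup r P
  notDvd : ¬ r ∣ P.relIndex G

variable {X : Type u} [Group X] [Finite X] {A G : Subgroup X} {q : ℕ}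

theorem Op.isSolvable (hO : Op A q) : Group.IsSolvable A :=
  Group.isSolvable_of_comm fun a b => Subtype.ext (hO.comm a a.2 b b.2)

theorem exists_invSyl (hO : Op A q) {L : Subgroup X} (hAL : A ≤ normalizer (L : Set X))
    (hcop : (Nat.card A).Coprime (Nat.card L)) (r : ℕ) [Fact r.Prime] :
    ∃ P, InvSyl A L r P := by
  obtain ⟨S, hS⟩ := Coprime.exists_invariant_sylow A L hAL hcop (Or.inl hO.isSolvable) r
  refine ⟨_, map_subtype_le _, hS, S.isPGroup'.map _, ?_⟩
  show ¬ r ∣ (((S : Subgroup L).map L.subtype).subgroupOf L).index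
  rw [subgroupOf, comap_map_eq_self_of_injective L.subtype_injective]
  exact S.not_dvd_index

theorem Fpf.le_invSyl (hG : Fpf A G) (hO : Op A q) {r : ℕ} [Fact r.Prime] {P R : Subgroup X}
    (hP : InvSyl A G r P) (hRG : R ≤ G) (hAR : A ≤ normalizer (R : Set X)) (hR : IsPGroup r R) :
    R ≤ P := by
  obtain ⟨S, hRS, hS⟩ :=
    Coprime.exists_invariant_sylow_ge A G hG.norm hG.cop (Or.inl hO.isSolvable) r R hRG hR hAR
  let T : Sylow r G := (hP.isP.of_equiv (subgroupOfEquivOfLe hP.le).symm).toSylow hP.notDvd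
  have hT : ((T : Subgroup G)).map G.subtype = P := by
    show (P.subgroupOf G).map G.subtype = P
    exact map_subgroupOf_eq_of_le hP.le
  obtain ⟨c, hc, he⟩ := Coprime.exists_invariant_sylow_conj A G hG.norm hG.cop
    (Or.inl hO.isSolvable) r S T hS (by rw [hT]; exact hP.inv)
  have hc1 : c = 1 := Subtype.ext (hG.fix c c.2 fun a ha => mem_centralizer_iff.mp hc a ha)
  rw [hc1, one_smul] at he
  rw [← hT, ← he]
  exact hRS

/-- An invariant Sylow subgroup meets each invariant subgroup in a Sylow subgroup. -/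
theorem Fpf.invSyl_inf (hG : Fpf A G) (hO : Op A q) {r : ℕ} [Fact r.Prime] {P L : Subgroup X}
    (hP : InvSyl A G r P) (hLG : L ≤ G) (hAL : A ≤ normalizer (L : Set X)) :
    InvSyl A L r (L ⊓ P) := by
  obtain ⟨P', hP'⟩ := exists_invSyl hO hAL (hG.cop.coprime_dvd_right (card_dvd_of_le hLG)) r
  refine ⟨inf_le_left, Coprime.le_normalizer_inf hAL hP.inv, hP.isP.to_le inf_le_right,
    fun h => hP'.notDvd (h.trans ?_)⟩
  exact relIndex_dvd_of_le_left L
    (le_inf hP'.le (hG.le_invSyl hO hP (hP'.le.trans hLG) hP'.inv hP'.isP))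

theorem center_ne_bot {r : ℕ} [Fact r.Prime] {P : Subgroup X} (hP : IsPGroup r P) (hne : P ≠ ⊥) :
    P ⊓ centralizer (P : Set X) ≠ ⊥ := by
  intro h
  have : Nontrivial P := (nontrivial_iff_ne_bot P).mpr hne
  refine hP.bot_lt_center.ne' ?_
  rw [eq_bot_iff_forall]
  intro x hx
  apply Subtype.ext
  rw [OneMemClass.coe_one, ← mem_bot, ← h]
  exact ⟨x.2, mem_centralizer_iff.mpr fun y hy =>
    congrArg Subtype.val (mem_center_iff.mp hx ⟨y, hy⟩)⟩

namespace Min

theorem ne_bot (hm : Min A G q) : G ≠ ⊥ := fun h => hm.nsol (by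
  subst h
  infer_instance)

/-- A nontrivial soluble invariant subgroup is not normalised by `G`. -/
theorem normalizer_ne (hm : Min A G q) {N : Subgroup X} (hN : N ≤ G)
    (hAN : A ≤ normalizer (N : Set X)) (hne : N ≠ ⊥) (hsol : Group.IsSolvable N) :
    G ⊓ normalizer (N : Set X) ≠ G := fun h => by
  have := hm.simp N hN hAN (inf_eq_left.mp h) hne
  exact hm.nsol (this ▸ hsol)

theorem isSolvable_pgroup {r : ℕ} [Fact r.Prime] {P : Subgroup X} (h : IsPGroup r P) :
    Group.IsSolvable P := Coprime.isSolvable_of_isNilpotent' h.isNilpotent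

/-- No invariant Sylow subgroup has a normal complement. -/
theorem no_complement (hm : Min A G q) {r : ℕ} [Fact r.Prime] {P : Subgroup X}
    (hP : InvSyl A G r P) (hne : P ≠ ⊥) (N : Subgroup G) [N.Normal]
    (hN : N.IsComplement' (P.subgroupOf G)) : False := by
  have hidx : N.index = Nat.card P := by
    rw [hN.symm.index_eq_card, Nat.card_congr (subgroupOfEquivOfLe hP.le).toEquiv]
  have hcard : Nat.card N = P.relIndex G := hN.index_eq_card.symm
  obtain ⟨k, hk⟩ := IsPGroup.iff_card.mp hP.isP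
  have hmem : ∀ x : G, (orderOf x).Coprime r → x ∈ N := fun x hx => by
    rw [← QuotientGroup.eq_one_iff (N := N), ← orderOf_eq_one_iff]
    refine Nat.eq_one_of_dvd_coprimes (hx.pow_right k) (orderOf_map_dvd (QuotientGroup.mk' N) x) ?_
    have := orderOf_dvd_natCard (x : G ⧸ N)
    rwa [← Subgroup.index, hidx, hk] at this
  have hcop : ∀ x ∈ N, (orderOf x).Coprime r := fun x hx =>
    ((Nat.Prime.coprime_iff_not_dvd Fact.out).mpr hP.notDvd).symm.coprime_dvd_left
      ((N.orderOf_dvd_natCard hx).trans hcard.dvd)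
  set N' := N.map G.subtype with hN'
  have hAN : A ≤ normalizer (N' : Set X) := Coprime.le_normalizer_of_conj_mem fun a ha => by
    rintro _ ⟨x, hx, rfl⟩
    refine ⟨⟨a * x * a⁻¹, Coprime.conj_mem_of_mem_normalizer (hm.norm ha) x.2⟩, hmem _ ?_, rfl⟩
    rw [← orderOf_injective G.subtype G.subtype_injective]
    show (orderOf (MulAut.conj a (x : X))).Coprime r
    rw [(MulAut.conj a).orderOf_eq, ← coe_subtype, orderOf_injective G.subtype G.subtype_injective]
    exact hcop x hx
  have hGN : G ≤ normalizer (N' : Set X) := Coprime.le_normalizer_of_conj_mem fun g hg => by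
    rintro _ ⟨x, hx, rfl⟩
    exact ⟨_, ‹N.Normal›.conj_mem x hx ⟨g, hg⟩, rfl⟩
  rcases eq_or_ne N' ⊥ with h | h
  · refine hm.nsol (isSolvable_pgroup (r := r) (IsPGroup.of_card (n := k) ?_))
    rw [← hk, ← Solvable.card_mul_relIndex hP.le, ← hcard,
      (map_eq_bot_iff_of_injective _ G.subtype_injective).mp h, card_bot, mul_one]
  · have htop := hm.simp N' (map_subtype_le _) hAN hGN h
    have hNt : N = ⊤ := map_injective G.subtype_injective
      (htop.trans (by rw [← MonoidHom.range_eq_map, range_subtype]))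
    exact hne (card_eq_one.mp (by rw [← hidx, hNt, index_top]))

/-- No non-identity element of `A` centralises a non-trivial invariant Sylow subgroup. -/
theorem not_le_cent (hm : Min A G q) {r : ℕ} [Fact r.Prime] {P : Subgroup X}
    (hP : InvSyl A G r P) (hne : P ≠ ⊥) {e : X} (he : e ∈ A) (he1 : e ≠ 1)
    (hPe : ∀ x ∈ P, e * x = x * e) : False := by
  set N := G ⊓ normalizer (P : Set X) with hN
  have hAN : A ≤ normalizer (N : Set X) :=
    Coprime.le_normalizer_inf hm.norm (Coprime.le_normalizer_normalizer hP.inv)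
  have hNP : N ≤ centralizer (P : Set X) := by
    refine le_of_cent hm.op hAN (hm.cop.coprime_dvd_right (card_dvd_of_le inf_le_left))
      fun b hb hb1 y hy hyb => mem_centralizer_iff.mpr fun p hp => ?_
    rcases hm.op.centralizes_or he hb hb1 with h | h
    · have hfree : ∀ z ∈ N ⊓ centralizer {b}, e * z = z * e → z = 1 := fun z hz hze =>
        hm.toFpf.fix_pair hm.op he he1 hb h hz.1.1 hze (mem_cent_singleton.mp hz.2)
      exact (commute_of_centralized hm.op he
        (inf_cent_le_normalizer hm.op.comm hAN (by simpa using hb) he) hfree (hPe p hp)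
        (fun z hz => hPe _ (Coprime.conj_mem_of_mem_normalizer hz.1.2 hp))
        (show y ∈ N ⊓ centralizer {b} from ⟨hy, mem_cent_singleton.mpr hyb⟩)).symm
    · exact hm.ab e he he1 p (hP.le hp) (hPe p hp) y hy.1 (h y hyb)
  have hnorm : normalizer (P.subgroupOf G : Set G) ≤ centralizer (P.subgroupOf G : Set G) := by
    rw [← subgroupOf_normalizer_eq hP.le]
    intro g hg
    exact mem_centralizer_iff.mpr fun p hp => Subtype.ext
      (mem_centralizer_iff.mp (hNP ⟨g.2, hg⟩) p hp)
  have hHall : Nat.Coprime (Nat.card (P.subgroupOf G)) (P.subgroupOf G).index := by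
    obtain ⟨k, hk⟩ := IsPGroup.iff_card.mp hP.isP
    rw [Nat.card_congr (subgroupOfEquivOfLe hP.le).toEquiv, hk]
    exact Nat.Coprime.pow_left k ((Nat.Prime.coprime_iff_not_dvd Fact.out).mpr hP.notDvd)
  obtain ⟨M, hM, hc⟩ := Transfer.exists_normal_complement_of_hall_central _ hHall hnorm
  exact hm.no_complement hP hne M hc

theorem card_comap_of_le {H K : Type u} [Group H] [Group K] {f : H →* K}
    (hf : Function.Injective f) {S : Subgroup K} (hS : S ≤ f.range) :
    Nat.card (S.comap f) = Nat.card S := by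
  rw [← card_map_of_injective hf, map_comap_eq_self hS]

/-- For odd `r` no two independent elements of `A` act freely on an invariant Sylow `r`-subgroup. -/
theorem no_free_pair (hm : Min A G q) {r : ℕ} [Fact r.Prime] (hr : r ≠ 2) {P : Subgroup X}
    (hP : InvSyl A G r P) (hne : P ≠ ⊥) {d e : X} (hd : d ∈ A) (hd1 : d ≠ 1) (he : e ∈ A)
    (hed : e ∉ zpowers d) (hfd : ∀ x ∈ P, d * x = x * d → x = 1)
    (hfe : ∀ x ∈ P, e * x = x * e → x = 1) : False := by
  set Z := Cfsg.centerThompsonOf r P with hZ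
  have hZP : Z ≤ P := inf_le_left.trans (Thompson.thompsonSubgroupOf_le P)
  have hPZ : normalizer (P : Set X) ≤ normalizer (Z : Set X) :=
    PComplement.normalizer_le_normalizer_centerThompsonOf P
  have hAZ : A ≤ normalizer (Z : Set X) := hP.inv.trans hPZ
  set L := G ⊓ normalizer (Z : Set X) with hL
  have hAL : A ≤ normalizer (L : Set X) :=
    Coprime.le_normalizer_inf hm.norm (Coprime.le_normalizer_normalizer hAZ)
  have hLG : L ≤ G := inf_le_left
  have hLsol : Group.IsSolvable L := hm.sub L hLG hAL (hm.normalizer_ne (hZP.trans hP.le) hAZ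
    (PComplement.centerThompsonOf_ne_bot hP.isP hne) (isSolvable_pgroup (hP.isP.to_le hZP)))
  have hcopL : (Nat.card A).Coprime (Nat.card L) := hm.cop.coprime_dvd_right (card_dvd_of_le hLG)
  set W := (Cfsg.pPrimeCore r L).map L.subtype with hW
  have hWL : W ≤ L := map_subtype_le _
  have hWc : (Nat.card W).Coprime r := by
    rw [hW, card_map_of_injective L.subtype_injective]
    exact Thompson.card_pPrimeCore_coprime
  have hNW : normalizer (L : Set X) ≤ normalizer (W : Set X) :=
    Coprime.normalizer_le_normalizer_map L _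
  have hLW : L ≤ normalizer (W : Set X) := le_normalizer.trans hNW
  have hAW : A ≤ normalizer (W : Set X) := hAL.trans hNW
  set Lb := secMap W L with hLb
  have hO' : Cfsg.pPrimeCore r Lb = ⊥ := by
    rw [← map_eq_bot_iff_of_injective _ Lb.subtype_injective]
    set U := (Cfsg.pPrimeCore r Lb).map Lb.subtype with hU
    have hUL : secPre W U ≤ L := secPre_le hWL (map_subtype_le _)
    have hle : secPre W U ≤ W := by
      intro x hx
      refine ⟨⟨x, hUL hx⟩, ?_, rfl⟩
      refine Thompson.le_pPrimeCore (N := (secPre W U).subgroupOf L)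
        ((normal_subgroupOf_iff_le_normalizer hUL).mpr (le_normalizer_secPre hLW
          (le_normalizer.trans (Coprime.normalizer_le_normalizer_map Lb _)))) ?_ hx
      rw [Nat.card_congr (subgroupOfEquivOfLe hUL).toEquiv, card_secPre]
      exact Nat.Coprime.mul_left (Thompson.card_pPrimeCore_coprime.coprime_dvd_left
        (card_map_dvd _ _)) hWc
    refine eq_bot_iff.mpr fun z hz => mem_bot.mpr ?_
    rw [← secMap_secPre (N := W) (K := U)] at hz
    obtain ⟨x, hx, hxT, rfl⟩ := exists_of_mem_secMap hz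
    exact sec_eq_one.mpr (hle hxT)
  set V := Cfsg.pCoreOf r Lb with hV
  have hcV : Lb ⊓ centralizer (V : Set _) ≤ V := by
    rintro z ⟨hz, hzc⟩
    haveI := isSolvable_secMap W hLsol
    refine ⟨⟨z, hz⟩, Agent.S0017.result r hO' (mem_centralizer_iff.mpr fun y hy => Subtype.ext ?_),
      rfl⟩
    exact mem_centralizer_iff.mp hzc y ⟨y, hy, rfl⟩
  obtain ⟨K, hK, hAK⟩ := Coprime.exists_invariant_hall A L hAL hcopL hLsol {p | p ≠ r}
  have hKc : (Nat.card K).Coprime r :=
    Nat.coprime_of_dvd fun p hp hpK hpr => hK.2.1 p hp hpK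
      ((Nat.prime_dvd_prime_iff_eq hp Fact.out).mp hpr)
  have hFs := hm.toFpf.sec hm.op (hWL.trans hLG) hAW
  have hOs := hm.op.sec hAW (hcopL.coprime_dvd_right (card_dvd_of_le hWL))
  have hfree : ∀ (f : X) (hf : f ∈ A), f ≠ 1 → (∀ x ∈ P, f * x = x * f → x = 1) →
      ∀ v ∈ V, QuotientGroup.mk' (W.subgroupOf _) ⟨f, hAW hf⟩ * v =
        v * QuotientGroup.mk' _ ⟨f, hAW hf⟩ → v = 1 := by
    intro f hf hf1 hPf v hv hvc
    obtain ⟨x, hx, hxL, rfl⟩ := exists_of_mem_secMap (pCoreOf_le r Lb hv)
    obtain ⟨y, hy, hyL, hyc, hye⟩ := exists_lift_fixed hm.op hWL hAW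
      (hcopL.coprime_dvd_right (card_dvd_of_le hWL)) (zpowers_le.mpr hf) hx hxL fun a ha => by
        obtain ⟨i, rfl⟩ := mem_zpowers_iff.mp ha
        rw [show (⟨f ^ i, hAW (zpowers_le.mpr hf ha)⟩ : normalizer (W : Set X)) =
          ⟨f, hAW hf⟩ ^ i from Subtype.ext (by simp), map_zpow]
        exact (Commute.zpow_left hvc i).eq
    set C := G ⊓ centralizer {f} with hC
    have hAC : A ≤ normalizer (C : Set X) :=
      inf_cent_le_normalizer hm.op.comm hm.norm (by simpa using hf)
    have hbot : C ⊓ P = ⊥ := eq_bot_iff.mpr fun z hz =>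
      mem_bot.mpr (hPf z hz.2 (mem_cent_singleton.mp hz.1.2))
    have hndvd := (hm.toFpf.invSyl_inf hm.op hP inf_le_left hAC).notDvd
    rw [hbot, relIndex_bot_left] at hndvd
    rw [← hye, ← orderOf_eq_one_iff]
    obtain ⟨k, hk⟩ := IsPGroup.iff_card.mp (isPGroup_pCoreOf r Lb)
    refine Nat.eq_one_of_dvd_coprimes
      (((Nat.Prime.coprime_iff_not_dvd Fact.out).mpr hndvd).symm.pow_right k) ?_
      (hk ▸ Subgroup.orderOf_dvd_natCard V (hye ▸ hv))
    refine (orderOf_map_dvd _ _).trans ?_
    rw [← orderOf_injective (normalizer (W : Set X)).subtype (subtype_injective _)]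
    exact C.orderOf_dvd_natCard ⟨hLG hyL, mem_cent_singleton.mpr (hyc f (mem_zpowers f))⟩
  have hKb : secMap W K ≤ ⊥ := by
    refine le_of_cent hOs (secMap_normalizer hAK hAW)
      (hFs.cop.coprime_dvd_right (card_dvd_of_le (secMap_mono (hK.1.trans hLG))))
      fun bb hbb hbb1 z hz hzb => ?_
    obtain ⟨b, hb, hbA, rfl⟩ := exists_of_mem_secMap hbb
    have hb1 : b ≠ 1 := fun h => hbb1 (sec_eq_one.mpr (h ▸ one_mem W))
    obtain ⟨f, hf, hf1, hPf, hbf⟩ : ∃ f ∈ A, f ≠ 1 ∧ (∀ x ∈ P, f * x = x * f → x = 1) ∧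
        b ∉ zpowers f := by
      by_cases h : b ∈ zpowers d
      · refine ⟨e, he, fun h1 => hed (h1 ▸ one_mem _), hfe, fun hbe => hed ?_⟩
        have heq : ∀ g ∈ A, g ≠ 1 → b ∈ zpowers g → zpowers b = zpowers g := fun g hg hg1 hbg =>
          eq_of_le_of_card_ge (zpowers_le.mpr hbg) (by
            rw [Nat.card_zpowers, Nat.card_zpowers, hm.op.orderOf_eq hbA hb1,
              hm.op.orderOf_eq hg hg1])
        rw [← heq d hd hd1 h, heq e he (fun h1 => hed (h1 ▸ one_mem _)) hbe]
        exact mem_zpowers e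
      · exact ⟨d, hd, hd1, hfd, h⟩
    set fb := QuotientGroup.mk' (W.subgroupOf _) ⟨f, hAW hf⟩ with hfb
    set bb := QuotientGroup.mk' (W.subgroupOf (normalizer (W : Set X))) ⟨b, hb⟩ with hbb'
    have hfb1 : fb ≠ 1 := fun h => hf1
      (hm.op.disjoint (hcopL.coprime_dvd_right (card_dvd_of_le hWL)) hf (sec_eq_one.mp h))
    have hbfb : bb ∉ zpowers fb := fun h => hbf (by
      obtain ⟨i, hi⟩ := mem_zpowers_iff.mp h
      rw [hfb, hbb', ← map_zpow, eq_comm] at hi
      have hmem : b⁻¹ * f ^ i ∈ W := by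
        have := (QuotientGroup.eq.mp hi : _)
        exact this
      have := hm.op.disjoint (hcopL.coprime_dvd_right (card_dvd_of_le hWL))
        (mul_mem (inv_mem hbA) (zpow_mem hf i)) hmem
      exact mem_zpowers_iff.mpr ⟨i, (inv_mul_eq_one.mp this).symm⟩)
    set Nc := secMap W K ⊓ centralizer {bb} with hNc
    have hKL : secMap W K ≤ Lb := secMap_mono hK.1
    have hVn : secMap W A ≤ normalizer (V : Set _) :=
      (secMap_normalizer hAL hAW).trans (normalizer_le_normalizer_pCoreOf r Lb)
    have hcopVK : (Nat.card V).Coprime (Nat.card (secMap W K)) := by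
      obtain ⟨k, hk⟩ := IsPGroup.iff_card.mp (isPGroup_pCoreOf r Lb)
      rw [hk]
      exact (hKc.symm.coprime_dvd_right (card_secMap_dvd W K)).pow_left k
    have hzV : z ∈ V := hcV ⟨hKL hz, mem_centralizer_iff.mpr fun v hv =>
      commute_of_fpf hOs (mem_secMap (hAW hf) hf) hfb1 (V := V) (N := Nc)
        (hVn (mem_secMap (hAW hf) hf))
        (inf_cent_le_normalizer hOs.comm (secMap_normalizer hAK hAW)
          (fun s hs => by
            rw [Set.mem_singleton_iff.mp hs]
            exact mem_secMap hb hbA) (mem_secMap (hAW hf) hf))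
        ((inf_le_left.trans hKL).trans
          (le_normalizer.trans (normalizer_le_normalizer_pCoreOf r Lb)))
        (hcopVK.coprime_dvd_right (card_dvd_of_le inf_le_left))
        (hfree f hf hf1 hPf)
        (fun w hw hwf => hFs.fix_pair hOs (mem_secMap (hAW hf) hf) hfb1 (mem_secMap hb hbA) hbfb
          (secMap_mono (hK.1.trans hLG) hw.1) hwf (mem_cent_singleton.mp hw.2))
        hv ⟨hz, mem_cent_singleton.mpr hzb⟩⟩
    exact mem_bot.mpr (Coprime.inf_eq_bot_of_coprime' hcopVK hzV hz)
  have hKW : K ≤ W := secMap_eq_bot (hK.1.trans hLW) (le_bot_iff.mp hKb)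
  have hidx : ∀ p : ℕ, p.Prime → p ∣ W.relIndex L → p = r := fun p hp h => by
    by_contra hne'
    exact hK.2.2 p hp hne' (h.trans (relIndex_dvd_of_le_left L hKW))
  -- transport to `G`
  let S : Sylow r G := (hP.isP.of_equiv (subgroupOfEquivOfLe hP.le).symm).toSylow hP.notDvd
  have hS : (S : Subgroup G) = P.subgroupOf G := rfl
  set Z' := Cfsg.centerThompsonOf r (S : Subgroup G) with hZ'
  have hmap : Z'.map G.subtype = Z := by
    rw [hZ', PComplement.centerThompsonOf_map _ _ G.subtype_injective.injOn, hS,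
      map_subgroupOf_eq_of_le hP.le]
  set M := normalizer (Z' : Set G) with hM
  have hMeq : M = L.subgroupOf G := by
    rw [hL, inf_subgroupOf_left, subgroupOf_normalizer_eq (hZP.trans hP.le), hM]
    have hz : Z.subgroupOf G = Z' := by
      rw [← hmap, subgroupOf, comap_map_eq_self_of_injective G.subtype_injective]
    rw [hz]
  let ι : M →* X := G.subtype.comp M.subtype
  have hι : Function.Injective ι := G.subtype_injective.comp M.subtype_injective
  have hrange : ι.range = L := by
    rw [MonoidHom.range_comp, range_subtype, hMeq, map_subgroupOf_eq_of_le hLG]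
  have hcardM : Nat.card M = Nat.card L := by
    rw [hMeq, Nat.card_congr (subgroupOfEquivOfLe hLG).toEquiv]
  have hPL : P ≤ L := le_inf hP.le (le_normalizer.trans hPZ)
  have hPM : Nat.card (P.comap ι) = Nat.card P := card_comap_of_le hι (hrange.symm ▸ hPL)
  have hWM : Nat.card (W.comap ι) = Nat.card W := card_comap_of_le hι (hrange.symm ▸ hWL)
  have hPM' : ¬ r ∣ (P.comap ι).index := by
    rw [index_comap, hrange]
    exact fun h => hP.notDvd (h.trans (Dvd.intro _ (relIndex_mul_relIndex _ _ _ hPL hLG)))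
  let SM : Sylow r M := (hP.isP.comap_of_injective ι hι).toSylow hPM'
  haveI hWn : (W.comap ι).Normal := ⟨fun x hx g =>
    show ι (g * x * g⁻¹) ∈ W by
      rw [map_mul, map_mul, map_inv]
      exact Coprime.conj_mem_of_mem_normalizer (hLW (hrange ▸ ⟨g, rfl⟩)) hx⟩
  obtain ⟨k, hk⟩ := IsPGroup.iff_card.mp hP.isP
  have hcard : Nat.card W * Nat.card P = Nat.card L := by
    have h2 := relIndex_mul_relIndex P L G hPL hLG
    have h3 : Nat.card W * W.relIndex L = Nat.card L := Solvable.card_mul_relIndex hWL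
    have h4 : Nat.card P * P.relIndex L = Nat.card L := Solvable.card_mul_relIndex hPL
    have h5 : Nat.card P ∣ W.relIndex L := by
      refine Nat.Coprime.dvd_of_dvd_mul_left ?_ (h3.symm ▸ h4 ▸ dvd_mul_right _ _)
      rw [hk]
      exact hWc.symm.pow_left k
    have h6 : W.relIndex L ∣ Nat.card P := by
      refine Nat.Coprime.dvd_of_dvd_mul_right ?_ (h4.symm ▸ h3 ▸ dvd_mul_left _ _)
      refine Nat.coprime_of_dvd fun p hp h7 h8 => ?_
      rw [hidx p hp h7] at h8
      exact hP.notDvd (h8.trans (Dvd.intro _ h2))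
    rw [Nat.dvd_antisymm h5 h6, h3]
  have h1 : Cfsg.HasNormalPComplement r M := by
    refine ⟨SM, W.comap ι, hWn, isComplement'_of_coprime ?_ ?_⟩
    · rw [IsPGroup.toSylow_coe, hPM, hWM, hcard, hcardM]
    · rw [IsPGroup.toSylow_coe, hPM, hWM, hk]
      exact hWc.pow_right k
  obtain ⟨S', N, hN, hc⟩ := PComplement.glauberman_thompson hr S h1
  refine hm.no_complement hP hne N (isComplement'_of_coprime ?_ ?_)
  all_goals
    have e : Nat.card (P.subgroupOf G) = Nat.card (S' : Subgroup G) := by
      rw [← hS, S.card_eq_multiplicity, S'.card_eq_multiplicity]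
    rw [e]
  · exact hc.card_mul
  · have hN' : Nat.card N = (S' : Subgroup G).index := hc.index_eq_card.symm
    rw [hN', S'.card_eq_multiplicity]
    exact Nat.Coprime.pow_right _
      ((Nat.Prime.coprime_iff_not_dvd Fact.out).mpr S'.not_dvd_index).symm

end Min

end Cfsg.Agent.FG78.Ab4323
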