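import Cfsg.Agent.FG78.Abelian4323.ActLine

/-!
Soluble invariant `{r, s}`-subgroups: with trivial `s`-core the `r`-Sylow subgroup is normal, and in
general an invariant `r`-subgroup centralising the `s`-core lies in the `r`-core.
-/

set_option autoImplicit false
set_option linter.unusedSectionVars false

namespace Cfsg.Agent.FG78.Ab4323

open Subgroup
open scoped commutatorElement

universe u

variable {X : Type u} [Group X] [Finite X] {A G : Subgroup X} {q : ℕ}

theorem pCoreOf_sec_eq_bot (r : ℕ) [Fact r.Prime] (H : Subgroup X) :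
    Cfsg.pCoreOf r (secMap (Cfsg.pCoreOf r H) H) = ⊥ := by
  set V := Cfsg.pCoreOf r H with hV
  set K := Cfsg.pCoreOf r (secMap V H) with hK
  have hHn : H ≤ normalizer (V : Set X) := le_normalizer.trans (normalizer_le_normalizer_pCoreOf r H)
  have hT : secPre V K ≤ H := secPre_le (pCoreOf_le r H) (pCoreOf_le r _)
  have hle : secPre V K ≤ V := le_pCoreOf hT
    (le_normalizer_secPre hHn (le_normalizer.trans (normalizer_le_normalizer_pCoreOf r _)))
    (isPGroup_secPre (isPGroup_pCoreOf r H) (isPGroup_pCoreOf r _))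
  refine eq_bot_iff.mpr fun z hz => mem_bot.mpr ?_
  rw [← secMap_secPre (N := V) (K := K)] at hz
  obtain ⟨x, hx, hxT, rfl⟩ := exists_of_mem_secMap hz
  exact sec_eq_one.mpr (hle hxT)

theorem secMap_rs {r s : ℕ} {N H : Subgroup X}
    (hrs : ∀ p : ℕ, p.Prime → p ∣ Nat.card H → p = r ∨ p = s) :
    ∀ p : ℕ, p.Prime → p ∣ Nat.card (secMap N H) → p = r ∨ p = s :=
  fun p hp h => hrs p hp (h.trans (card_secMap_dvd N H))

theorem commute_sec_frattini {s : ℕ} [Fact s.Prime] {Q : Subgroup X} (hQ : IsPGroup s Q) :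
    IsMulCommutative (secMap ((frattini Q).map Q.subtype) Q) :=
  ⟨⟨fun u v => by
    obtain ⟨u₀, hu, huQ, hue⟩ := exists_of_mem_secMap u.2
    obtain ⟨v₀, hv, hvQ, hve⟩ := exists_of_mem_secMap v.2
    refine Subtype.ext ?_
    show (u : normalizer (((frattini Q).map Q.subtype : Subgroup X) : Set X) ⧸
      ((frattini Q).map Q.subtype).subgroupOf _) * v = v * u
    rw [← hue, ← hve, ← commutatorElement_eq_one_iff_mul_comm, ← map_commutatorElement,
      sec_eq_one]
    exact ⟨_, PGroup.comm_mem_frattini hQ ⟨u₀, huQ⟩ ⟨v₀, hvQ⟩, rfl⟩⟩⟩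

/-- A soluble invariant `{r, s}`-subgroup with trivial `s`-core has a normal Sylow `r`-subgroup. -/
theorem pure_le (hG : Fpf A G) (hO : Op A q) {r s : ℕ} [Fact r.Prime] [Fact s.Prime] (hne : r ≠ s)
    {H : Subgroup X} (hHG : H ≤ G) (hAH : A ≤ normalizer (H : Set X)) (hsol : Group.IsSolvable H)
    (hrs : ∀ p : ℕ, p.Prime → p ∣ Nat.card H → p = r ∨ p = s)
    (hs : Cfsg.pCoreOf s H = ⊥) {R : Subgroup X} (hRH : R ≤ H) (hR : IsPGroup r R) :
    R ≤ Cfsg.pCoreOf r H := by
  set V := Cfsg.pCoreOf r H with hVdef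
  have hVH : V ≤ H := pCoreOf_le r H
  have hVp : IsPGroup r V := isPGroup_pCoreOf r H
  have hHV : H ≤ normalizer (V : Set X) := le_normalizer.trans (normalizer_le_normalizer_pCoreOf r H)
  have hAV : A ≤ normalizer (V : Set X) := hAH.trans (normalizer_le_normalizer_pCoreOf r H)
  set Hb := secMap V H with hHb
  set Ub := Cfsg.pCoreOf s Hb with hUb
  set U := secPre V Ub with hU
  have hUH : U ≤ H := secPre_le hVH (pCoreOf_le s Hb)
  have hAU : A ≤ normalizer (U : Set X) := le_normalizer_secPre hAV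
    ((secMap_normalizer hAH hAV).trans (normalizer_le_normalizer_pCoreOf s Hb))
  have hHU : H ≤ normalizer (U : Set X) := le_normalizer_secPre hHV
    (le_normalizer.trans (normalizer_le_normalizer_pCoreOf s Hb))
  have hcop : ∀ K : Subgroup X, K ≤ H → (Nat.card A).Coprime (Nat.card K) := fun K hK =>
    hG.cop.coprime_dvd_right (card_dvd_of_le (hK.trans hHG))
  obtain ⟨S₀, hAS⟩ := Coprime.exists_invariant_sylow A U hAU (hcop U hUH)
    (Or.inr (Coprime.solvable_of_le hUH hsol)) s
  set S := (S₀ : Subgroup U).map U.subtype with hSdef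
  have hSU : S ≤ U := map_subtype_le _
  have hSp : IsPGroup s S := S₀.isPGroup'.map _
  have hSV : S ≤ normalizer (V : Set X) := hSU.trans secPre_le_normalizer
  have hdSV : ∀ x ∈ S, x ∈ V → x = 1 := fun x hx hxV =>
    Coprime.inf_eq_bot_of_coprime' (coprime_of_isPGroup hne hVp hSp) hxV hx
  -- `U = V S`
  have hSb : secMap V S = Ub := by
    refine eq_of_le_of_card_ge ((secMap_mono hSU).trans secMap_secPre.le)
      (Nat.le_of_dvd Nat.card_pos ?_)
    rw [card_secMap_of_disjoint hSV hdSV, hSdef,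
      ← Nat.card_congr ((S₀ : Subgroup U).equivMapOfInjective _ U.subtype_injective).toEquiv]
    refine Nat.Coprime.dvd_of_dvd_mul_right (n := (S₀ : Subgroup U).index) ?_ ?_
    · obtain ⟨n, hn⟩ := IsPGroup.iff_card.mp (isPGroup_pCoreOf s Hb)
      rw [hn]
      exact Nat.Coprime.pow_left _ ((Fact.out : s.Prime).coprime_iff_not_dvd.mpr S₀.not_dvd_index)
    · rw [(S₀ : Subgroup U).card_mul_index, card_secPre]
      exact dvd_mul_right _ _
  set N := H ⊓ normalizer (S : Set X) with hN
  have hAN : A ≤ normalizer (N : Set X) :=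
    Coprime.le_normalizer_inf hAH (Coprime.le_normalizer_normalizer hAS)
  obtain ⟨R₀, hAR₁⟩ := Coprime.exists_invariant_sylow A N hAN (hcop N inf_le_left)
    (Or.inr (Coprime.solvable_of_le inf_le_left hsol)) r
  set R₁ := (R₀ : Subgroup N).map N.subtype with hR₁def
  have hR₁N : R₁ ≤ N := map_subtype_le _
  have hR₁p : IsPGroup r R₁ := R₀.isPGroup'.map _
  have hR₁V : R₁ ≤ normalizer (V : Set X) := (hR₁N.trans inf_le_left).trans hHV
  -- `R₁` centralises `S`
  have hcent : ∀ x ∈ R₁, ∀ y ∈ S, x * y = y * x := by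
    set Φ := (frattini V).map V.subtype with hΦ
    have hΦV : Φ ≤ V := map_subtype_le _
    have hN' : normalizer (V : Set X) ≤ normalizer (Φ : Set X) :=
      Coprime.normalizer_le_normalizer_map V _
    have hAΦ : A ≤ normalizer (Φ : Set X) := hAV.trans hN'
    haveI := commute_sec_frattini hVp
    have hfaith : ∀ z ∈ secMap Φ S, (∀ v ∈ secMap Φ V, z * v = v * z) → z = 1 := by
      intro z hz hzv
      obtain ⟨x, hx, hxS, rfl⟩ := exists_of_mem_secMap hz
      have hxc : zpowers x ≤ centralizer (V : Set X) := by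
        refine Coprime.le_centralizer_of_frattini _ V (zpowers_le.mpr (hSV hxS)) ?_ fun a ha v hv => ?_
        · exact ((coprime_of_isPGroup hne hVp hSp).symm.coprime_dvd_left
            (card_dvd_of_le (zpowers_le.mpr hxS))).coprime_dvd_right (card_subgroup_dvd_card _)
        · obtain ⟨i, rfl⟩ := mem_zpowers_iff.mp ha
          have hvn : v ∈ normalizer (Φ : Set X) := hN' (le_normalizer hv)
          have e := (Commute.zpow_left (hzv _ (mem_secMap hvn hv) :
            Commute (QuotientGroup.mk' (Φ.subgroupOf _) ⟨x, hx⟩) _) i).eq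
          rw [← map_zpow, ← commutatorElement_eq_one_iff_mul_comm, ← map_commutatorElement,
            sec_eq_one] at e
          have e' : ⁅x ^ i, v⁆ ∈ Φ := e
          rwa [commutatorElement_def] at e'
      have hxV : x ∈ V := cent_core_le hsol hrs hs
        ⟨hUH (hSU hxS), hxc (mem_zpowers x)⟩
      rw [sec_eq_one, show ((⟨x, hx⟩ : normalizer (Φ : Set X)) : X) = 1 from hdSV x hxS hxV]
      exact one_mem Φ
    have hline := act_line (hG.sec hO ((hΦV.trans hVH).trans hHG) hAΦ)
      (hO.sec hAΦ (hcop Φ (hΦV.trans hVH))) (V := secMap Φ V) (S := secMap Φ S)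
      (R := secMap Φ R₁) (isPGroup_secMap hSp)
      (secMap_mono (hVH.trans hHG)) (secMap_mono ((hSU.trans hUH).trans hHG))
      (secMap_mono ((hR₁N.trans inf_le_left).trans hHG))
      (secMap_normalizer hAV hAΦ) (secMap_normalizer hAS hAΦ) (secMap_normalizer hAR₁ hAΦ)
      (secMap_normalizer hSV (hSV.trans hN')) (secMap_normalizer hR₁V (hR₁V.trans hN'))
      (secMap_normalizer (hR₁N.trans inf_le_right) (hR₁V.trans hN'))
      (coprime_of_isPGroup hne (isPGroup_secMap hVp) (isPGroup_secMap hSp))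
      (coprime_of_isPGroup hne (isPGroup_secMap hR₁p) (isPGroup_secMap hSp)) hfaith
    intro x hx y hy
    have hxn : x ∈ normalizer (Φ : Set X) := hN' (hR₁V hx)
    have hyn : y ∈ normalizer (Φ : Set X) := hN' (hSV hy)
    have e := mem_centralizer_iff.mp (hline (mem_secMap hxn hx)) _ (mem_secMap hyn hy)
    rw [eq_comm, ← commutatorElement_eq_one_iff_mul_comm, ← map_commutatorElement, sec_eq_one] at e
    have e' : ⁅x, y⁆ ∈ V := hΦV e
    have hS : ⁅x, y⁆ ∈ S := mul_mem
      (Coprime.conj_mem_of_mem_normalizer ((hR₁N hx).2) hy) (inv_mem hy)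
    exact commutatorElement_eq_one_iff_mul_comm.mp (hdSV _ hS e')
  -- so `R₁ ≤ V`
  have hRb : secMap V R₁ ≤ Ub := by
    refine le_trans (le_inf (secMap_mono (hR₁N.trans inf_le_left)) fun z hz => ?_)
      (cent_core_le (isSolvable_secMap V hsol)
        (fun p hp h => (secMap_rs hrs p hp h).symm) (pCoreOf_sec_eq_bot r H))
    obtain ⟨x, hx, hxR, rfl⟩ := exists_of_mem_secMap hz
    refine mem_centralizer_iff.mpr fun w hw => ?_
    have hw' : w ∈ secMap V S := hSb.symm ▸ hw
    obtain ⟨y, hy, hyS, rfl⟩ := exists_of_mem_secMap hw'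
    rw [← map_mul, ← map_mul]
    exact congrArg _ (Subtype.ext (hcent x hxR y hyS).symm)
  have hR₁le : R₁ ≤ V := fun x hx => sec_eq_one.mp (Coprime.inf_eq_bot_of_coprime'
    (coprime_of_isPGroup hne (isPGroup_secMap (N := V) hR₁p) (isPGroup_pCoreOf s Hb))
    (mem_secMap (hR₁V hx) hx) (hRb (mem_secMap (hR₁V hx) hx)))
  -- Frattini: `H = V N`
  have hHb' : ¬ r ∣ Nat.card Hb := by
    have hsub : Hb ≤ secMap V N := by
      intro z hz
      obtain ⟨x, hx, hxH, rfl⟩ := exists_of_mem_secMap hz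
      let e : MulAut U :=
        { toFun := fun y => ⟨x * y * x⁻¹, Coprime.conj_mem_of_mem_normalizer (hHU hxH) y.2⟩
          invFun := fun y => ⟨x⁻¹ * y * x, Coprime.conj_mem_of_mem_normalizer' (hHU hxH) y.2⟩
          left_inv := fun y => by ext; simp [mul_assoc]
          right_inv := fun y => by ext; simp [mul_assoc]
          map_mul' := fun y y' => by ext; simp [mul_assoc] }
      let S₂ : Sylow s U := S₀.comapOfInjective e.symm.toMonoidHom e.symm.injective
        (fun y _ => ⟨e y, e.symm_apply_apply y⟩)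
      obtain ⟨u, hu⟩ := MulAction.exists_smul_eq U S₂ S₀
      have hn : (u : X) * x ∈ normalizer (S : Set X) := by
        rw [hSdef, Coprime.mem_normalizer_map_iff_smul]
        refine eq_of_le_of_card_ge ?_ (Nat.card_congr
          (equivMapOfInjective _ _ (MulAut.conj _).injective).toEquiv).le
        rintro _ ⟨_, ⟨w, hw, rfl⟩, rfl⟩
        have h2 : u * e w * u⁻¹ ∈ (S₀ : Subgroup U) := by
          rw [← hu]
          refine Subgroup.mem_map.mpr ⟨e w, ?_, rfl⟩
          show e.symm (e w) ∈ (S₀ : Subgroup U)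
          rwa [MulEquiv.symm_apply_apply]
        refine ⟨_, h2, ?_⟩
        show (u : X) * (x * w * x⁻¹) * (u : X)⁻¹ = (u : X) * x * w * ((u : X) * x)⁻¹
        group
      have hun : (u : X) * x ∈ N := ⟨mul_mem (hUH u.2) hxH, hn⟩
      have hunn : (u : X) ∈ normalizer (V : Set X) := secPre_le_normalizer u.2
      have hub : QuotientGroup.mk' (V.subgroupOf _) ⟨(u : X), hunn⟩ ∈ secMap V N := by
        have : QuotientGroup.mk' (V.subgroupOf _) ⟨(u : X), hunn⟩ ∈ secMap V S := by
          rw [hSb]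
          exact (mem_secPre.mp u.2).2
        refine secMap_mono ?_ this
        exact le_inf (hSU.trans hUH) le_normalizer
      have hm := mul_mem (inv_mem hub) (mem_secMap (mul_mem hunn hx) hun)
      rwa [← map_inv, ← map_mul, show (⟨(u : X), hunn⟩ : normalizer (V : Set X))⁻¹ *
        ⟨(u : X) * x, mul_mem hunn hx⟩ = ⟨x, hx⟩ from Subtype.ext (by simp)] at hm
    intro hr
    have hNV : N ≤ normalizer (V : Set X) := inf_le_left.trans hHV
    let f : N →* _ := (QuotientGroup.mk' (V.subgroupOf (normalizer (V : Set X)))).comp (inclusion hNV)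
    have hfr : secMap V N = f.range := le_antisymm
      (fun y hy => by
        obtain ⟨x, hx, hxN, rfl⟩ := exists_of_mem_secMap hy
        exact ⟨⟨x, hxN⟩, rfl⟩)
      (by rintro _ ⟨x, rfl⟩; exact mem_secMap (hNV x.2) x.2)
    have hker : (R₀ : Subgroup N) ≤ f.ker := fun x hx => sec_eq_one.mpr (hR₁le ⟨x, hx, rfl⟩)
    have h1 : Nat.card Hb ∣ (R₀ : Subgroup N).index := by
      refine (card_dvd_of_le hsub).trans ?_
      rw [hfr, ← index_ker]
      exact index_dvd_of_le hker
    exact R₀.not_dvd_index (hr.trans h1)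
  refine secMap_eq_bot ((hRH.trans hHV)) ?_
  refine (eq_bot_iff.mpr fun z hz => mem_bot.mpr ?_)
  obtain ⟨n, hn⟩ := IsPGroup.iff_card.mp (isPGroup_secMap (N := V) hR)
  have hc : (Nat.card (secMap V R)).Coprime (Nat.card Hb) := by
    rw [hn]
    exact Nat.Coprime.pow_left _ ((Fact.out : r.Prime).coprime_iff_not_dvd.mpr hHb')
  exact Coprime.inf_eq_bot_of_coprime' hc hz (secMap_mono hRH hz)

/-- An invariant `r`-subgroup centralising the `s`-core lies in the `r`-core. -/
theorem le_core_of_cent (hG : Fpf A G) (hO : Op A q) {r s : ℕ} [Fact r.Prime] [Fact s.Prime]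
    (hne : r ≠ s) {H : Subgroup X} (hHG : H ≤ G) (hAH : A ≤ normalizer (H : Set X))
    (hsol : Group.IsSolvable H) (hrs : ∀ p : ℕ, p.Prime → p ∣ Nat.card H → p = r ∨ p = s)
    {R : Subgroup X} (hRH : R ≤ H) (hR : IsPGroup r R)
    (hcent : R ≤ centralizer (Cfsg.pCoreOf s H : Set X)) : R ≤ Cfsg.pCoreOf r H := by
  set W := Cfsg.pCoreOf s H with hW
  have hWH : W ≤ H := pCoreOf_le s H
  have hHW : H ≤ normalizer (W : Set X) := le_normalizer.trans (normalizer_le_normalizer_pCoreOf s H)
  have hAW : A ≤ normalizer (W : Set X) := hAH.trans (normalizer_le_normalizer_pCoreOf s H)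
  have hRb := pure_le (hG.sec hO (hWH.trans hHG) hAW)
    (hO.sec hAW (hG.cop.coprime_dvd_right (card_dvd_of_le (hWH.trans hHG)))) hne
    (secMap_mono hHG) (secMap_normalizer hAH hAW) (isSolvable_secMap W hsol) (secMap_rs hrs)
    (pCoreOf_sec_eq_bot s H) (secMap_mono hRH) (isPGroup_secMap hR)
  set M := secPre W (Cfsg.pCoreOf r (secMap W H)) with hM
  have hMH : M ≤ H := secPre_le hWH (pCoreOf_le r _)
  have hHM : H ≤ normalizer (M : Set X) := le_normalizer_secPre hHW
    (le_normalizer.trans (normalizer_le_normalizer_pCoreOf r _))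
  set D := M ⊓ centralizer (W : Set X) with hD
  have hRD : R ≤ D := fun x hx =>
    ⟨mem_secPre.mpr ⟨hHW (hRH hx), hRb (mem_secMap (hHW (hRH hx)) hx)⟩, hcent hx⟩
  have hHD : H ≤ normalizer (D : Set X) :=
    Coprime.le_normalizer_inf hHM (Coprime.le_normalizer_centralizer hHW)
  have hDW : D ≤ normalizer (W : Set X) := inf_le_left.trans secPre_le_normalizer
  let f : D →* Cfsg.pCoreOf r (secMap W H) :=
    { toFun := fun x => ⟨_, (mem_secPre.mp x.2.1).2⟩
      map_one' := Subtype.ext (map_one (QuotientGroup.mk' _))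
      map_mul' := fun x y => Subtype.ext (map_mul (QuotientGroup.mk' _)
        (⟨x, hDW x.2⟩ : normalizer (W : Set X)) ⟨y, hDW y.2⟩) }
  have hnil : Group.IsNilpotent D := by
    haveI := (isPGroup_pCoreOf r (secMap W H)).isNilpotent
    refine Subgroup.isNilpotent_of_ker_le_center f fun x hx => mem_center_iff.mpr fun y => ?_
    exact Subtype.ext (mem_centralizer_iff.mp y.2.2 x (sec_eq_one.mp (congrArg Subtype.val hx))).symm
  obtain ⟨P, hP⟩ := (hR.of_equiv (subgroupOfEquivOfLe hRD).symm).exists_le_sylow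
  haveI : (P : Subgroup D).Normal := Transfer.nilpotent_sylow_normal hnil P
  have h1 : R ≤ Cfsg.pCoreOf r D := fun x hx =>
    ⟨⟨x, hRD hx⟩, Fitting.le_pCore inferInstance P.isPGroup' (hP (show (⟨x, hRD hx⟩ : D) ∈ R.subgroupOf D from hx)), rfl⟩
  exact h1.trans (le_pCoreOf ((pCoreOf_le r D).trans (inf_le_left.trans hMH))
    (hHD.trans (normalizer_le_normalizer_pCoreOf r D)) (isPGroup_pCoreOf r D))

end Cfsg.Agent.FG78.Ab4323
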