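import Cfsg.Agent.Lib.Coprime.Abelian
import Cfsg.Agent.Lib.Coprime.Hall
import Cfsg.Agent.Lib.Coprime.Hom
import Cfsg.Agent.Lib.Frobenius.Nilpotent
import Cfsg.Agent.Lib.Transfer.Hall

/-!
An elementary abelian group of order `q²` acting coprimely with abelian centralisers: the
hypothesis, its inheritance by subgroups and sections, and the consequences of Thompson's theorem.
-/

set_option autoImplicit false
set_option linter.unusedSectionVars false

namespace Cfsg.Agent.FG78.Ab4323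

open Subgroup
open scoped commutatorElement

universe u

/-- `A` is elementary abelian of order `q²`. -/
structure Op {X : Type u} [Group X] (A : Subgroup X) (q : ℕ) : Prop where
  prime : q.Prime
  comm : ∀ a ∈ A, ∀ b ∈ A, a * b = b * a
  exp : ∀ a ∈ A, a ^ q = 1
  card : Nat.card A = q ^ 2

/-- `A` normalises `G`, coprimely, and every centraliser of a non-identity element is abelian. -/
structure Good {X : Type u} [Group X] (A G : Subgroup X) : Prop where
  norm : A ≤ normalizer (G : Set X)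
  cop : (Nat.card A).Coprime (Nat.card G)
  ab : ∀ a ∈ A, a ≠ 1 → ∀ x ∈ G, a * x = x * a → ∀ y ∈ G, a * y = y * a → x * y = y * x

/-- Moreover `A` has no common fixed point in `G`. -/
structure Fpf {X : Type u} [Group X] (A G : Subgroup X) : Prop extends Good A G where
  fix : ∀ x ∈ G, (∀ a ∈ A, a * x = x * a) → x = 1

variable {X : Type u} [Group X] [Finite X] {A G : Subgroup X} {q : ℕ}

theorem Good.mono (h : Good A G) {H : Subgroup X} (hH : H ≤ G)
    (hAH : A ≤ normalizer (H : Set X)) : Good A H :=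
  ⟨hAH, h.cop.coprime_dvd_right (card_dvd_of_le hH),
    fun a ha ha1 x hx hxa y hy hya => h.ab a ha ha1 x (hH hx) hxa y (hH hy) hya⟩

theorem Fpf.mono (h : Fpf A G) {H : Subgroup X} (hH : H ≤ G)
    (hAH : A ≤ normalizer (H : Set X)) : Fpf A H :=
  ⟨h.toGood.mono hH hAH, fun x hx hxa => h.fix x (hH hx) hxa⟩

theorem mem_cent_singleton {d x : X} : x ∈ centralizer ({d} : Set X) ↔ d * x = x * d := by
  simp [mem_centralizer_iff]

theorem inf_cent_le_normalizer (hA : ∀ a ∈ A, ∀ b ∈ A, a * b = b * a) {H : Subgroup X}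
    (hH : A ≤ normalizer (H : Set X)) {S : Set X} (hS : ∀ s ∈ S, s ∈ A) :
    A ≤ normalizer ((H ⊓ centralizer S : Subgroup X) : Set X) :=
  Coprime.le_normalizer_of_conj_mem fun a ha x hx =>
    ⟨Coprime.conj_mem_of_mem_normalizer (hH ha) hx.1, mem_centralizer_iff.mpr fun s hs => by
      have h1 : s * x = x * s := mem_centralizer_iff.mp hx.2 s hs
      have h2 : s * a = a * s := hA s (hS s hs) a ha
      calc s * (a * x * a⁻¹) = a * (s * x) * a⁻¹ := by rw [← mul_assoc, ← mul_assoc, h2, mul_assoc a]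
        _ = a * (x * s) * a⁻¹ := by rw [h1]
        _ = a * x * a⁻¹ * (a * s * a⁻¹) := by group
        _ = a * x * a⁻¹ * s := by rw [← h2, mul_inv_cancel_right]⟩

theorem Op.isMulCommutative (hO : Op A q) : IsMulCommutative A :=
  ⟨⟨fun a b => Subtype.ext (hO.comm a a.2 b b.2)⟩⟩

theorem Op.orderOf_eq (hO : Op A q) {a : X} (ha : a ∈ A) (ha1 : a ≠ 1) : orderOf a = q := by
  rcases (Nat.dvd_prime hO.prime).mp (orderOf_dvd_of_pow_eq_one (hO.exp a ha)) with h | h
  · exact absurd (orderOf_eq_one_iff.mp h) ha1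
  · exact h

theorem Op.not_isCyclic (hO : Op A q) : ¬ IsCyclic A := by
  intro hc
  obtain ⟨g, hg⟩ := hc.exists_generator
  have h1 : orderOf g = Nat.card A := orderOf_eq_card_of_forall_mem_zpowers hg
  have h2 : orderOf g ∣ q := orderOf_dvd_of_pow_eq_one (Subtype.ext (by simpa using hO.exp g g.2))
  rw [h1, hO.card] at h2
  have := Nat.le_of_dvd hO.prime.pos h2
  have := hO.prime.two_le
  nlinarith

theorem Op.exists_notMem (hO : Op A q) (d : X) : ∃ b ∈ A, b ∉ zpowers d := by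
  by_contra hcon
  push Not at hcon
  exact hO.not_isCyclic (isCyclic_of_injective (Subgroup.inclusion hcon)
    (Subgroup.inclusion_injective hcon))

theorem Op.notMem_symm (hO : Op A q) {d b : X} (hb : b ∈ A) (hbd : b ∉ zpowers d) (hd : d ∈ A)
    (hd1 : d ≠ 1) : d ∉ zpowers b := by
  intro h
  have hle : zpowers d ≤ zpowers b := zpowers_le.mpr h
  have hb1 : b ≠ 1 := fun e => hbd (e ▸ one_mem _)
  have : zpowers d = zpowers b := eq_of_le_of_card_ge hle (by
    rw [Nat.card_zpowers, Nat.card_zpowers, hO.orderOf_eq hb hb1, hO.orderOf_eq hd hd1])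
  exact hbd (this ▸ mem_zpowers b)

theorem Op.closure_pair (hO : Op A q) {d b : X} (hd : d ∈ A) (hd1 : d ≠ 1) (hb : b ∈ A)
    (hbd : b ∉ zpowers d) : closure ({d, b} : Set X) = A := by
  have hle : closure ({d, b} : Set X) ≤ A := (closure_le _).mpr (by
    rintro x (rfl | rfl)
    exacts [hd, hb])
  refine eq_of_le_of_card_ge hle ?_
  have hlt : zpowers d < closure ({d, b} : Set X) :=
    lt_of_le_of_ne (zpowers_le.mpr (subset_closure (Or.inl rfl)))
      fun e => hbd (e ▸ subset_closure (Or.inr rfl))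
  have h1 : Nat.card (closure ({d, b} : Set X)) ∣ q ^ 2 := hO.card ▸ card_dvd_of_le hle
  obtain ⟨i, hi, he⟩ := (Nat.dvd_prime_pow hO.prime).mp h1
  rw [hO.card, he]
  refine Nat.pow_le_pow_right hO.prime.pos ?_
  by_contra hi2
  refine hlt.ne (eq_of_le_of_card_ge hlt.le ?_)
  rw [he, Nat.card_zpowers, hO.orderOf_eq hd hd1]
  calc q ^ i ≤ q ^ 1 := Nat.pow_le_pow_right hO.prime.pos (by omega)
    _ = q := pow_one q

/-- Two independent elements of `A` have no common fixed point. -/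
theorem Fpf.fix_pair (h : Fpf A G) (hO : Op A q) {d b : X} (hd : d ∈ A) (hd1 : d ≠ 1)
    (hb : b ∈ A) (hbd : b ∉ zpowers d) {x : X} (hx : x ∈ G) (hxd : d * x = x * d)
    (hxb : b * x = x * b) : x = 1 := by
  refine h.fix x hx fun a ha => ?_
  have hmem : a ∈ closure ({d, b} : Set X) := by rwa [hO.closure_pair hd hd1 hb hbd]
  have hle : closure ({d, b} : Set X) ≤ centralizer ({x} : Set X) := (closure_le _).mpr (by
    rintro y (rfl | rfl)
    · exact mem_cent_singleton.mpr hxd.symm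
    · exact mem_cent_singleton.mpr hxb.symm)
  exact (mem_cent_singleton.mp (hle hmem)).symm

/-- `K` is generated by the centralisers of the non-identity elements of `A`. -/
theorem le_of_cent (hO : Op A q) {K H : Subgroup X} (hK : A ≤ normalizer (K : Set X))
    (hcop : (Nat.card A).Coprime (Nat.card K))
    (h : ∀ b ∈ A, b ≠ 1 → ∀ x ∈ K, b * x = x * b → x ∈ H) : K ≤ H :=
  haveI := hO.isMulCommutative
  Coprime.le_of_centralizer_le A K H hO.not_isCyclic hK hcop
    fun b hb hb1 x hx => h b hb hb1 x hx.1 (mem_cent_singleton.mp hx.2)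

/-- A subgroup without fixed points of an element of order `q` is nilpotent. -/
theorem isNilpotent_of_fpf (hO : Op A q) {d : X} (hd : d ∈ A) (hd1 : d ≠ 1) {K : Subgroup X}
    (hdK : d ∈ normalizer (K : Set X)) (hfix : ∀ x ∈ K, d * x = x * d → x = 1) :
    Group.IsNilpotent K := by
  rcases eq_or_ne K ⊥ with rfl | hne
  · infer_instance
  let φ : K ≃* K :=
    { toFun := fun x => ⟨d * x * d⁻¹, Coprime.conj_mem_of_mem_normalizer hdK x.2⟩
      invFun := fun x => ⟨d⁻¹ * x * d, Coprime.conj_mem_of_mem_normalizer' hdK x.2⟩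
      left_inv := fun x => by ext; simp [mul_assoc]
      right_inv := fun x => by ext; simp [mul_assoc]
      map_mul' := fun x y => by ext; simp [mul_assoc] }
  have hφ : MonoidHom.FixedPointFree (φ : K →* K) := fun x hx =>
    Subtype.ext (hfix x x.2 (mul_inv_eq_iff_eq_mul.mp (congrArg Subtype.val hx)))
  have hpow : ∀ n : ℕ, ∀ x : K, ((φ ^ n) x : X) = d ^ n * x * (d ^ n)⁻¹ := by
    intro n
    induction n with
    | zero => intro x; simp
    | succ n ih =>
      intro x
      rw [pow_succ, MulAut.mul_apply, ih, pow_succ]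
      show d ^ n * (d * x * d⁻¹) * (d ^ n)⁻¹ = _
      group
  have hq : φ ^ q = 1 := MulEquiv.ext fun x => Subtype.ext (by
    rw [hpow, hO.exp d hd]
    simp)
  exact Frobenius.isNilpotent_of_fixedPointFree K φ hφ hO.prime hq

/-- If `d` has no fixed points in `V` nor in `N`, of coprime orders, and `N` normalises `V`, then
they commute. -/
theorem commute_of_fpf (hO : Op A q) {d : X} (hd : d ∈ A) (hd1 : d ≠ 1) {V N : Subgroup X}
    (hdV : d ∈ normalizer (V : Set X)) (hdN : d ∈ normalizer (N : Set X))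
    (hNV : N ≤ normalizer (V : Set X)) (hcop : (Nat.card V).Coprime (Nat.card N))
    (hV : ∀ x ∈ V, d * x = x * d → x = 1) (hN : ∀ x ∈ N, d * x = x * d → x = 1)
    {v n : X} (hv : v ∈ V) (hn : n ∈ N) : v * n = n * v := by
  have hnil : Group.IsNilpotent (V ⊔ N : Subgroup X) := by
    refine isNilpotent_of_fpf hO hd hd1 ?_ fun x hx hdx => ?_
    · exact Coprime.le_normalizer_sup (A := zpowers d) (zpowers_le.mpr hdV) (zpowers_le.mpr hdN)
        (mem_zpowers d)
    · obtain ⟨a, ha, b, hb, rfl⟩ := Coprime.exists_mul_of_mem_sup hNV hx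
      have h1 : a⁻¹ * (d * a * d⁻¹) = b * (d * b * d⁻¹)⁻¹ := by
        have : d * a * d⁻¹ * (d * b * d⁻¹) = a * b := by
          rw [show d * a * d⁻¹ * (d * b * d⁻¹) = d * (a * b) * d⁻¹ by group, hdx,
            mul_inv_cancel_right]
        rw [eq_mul_inv_iff_mul_eq, mul_assoc, this, inv_mul_cancel_left]
      have hV' : a⁻¹ * (d * a * d⁻¹) ∈ V :=
        mul_mem (inv_mem ha) (Coprime.conj_mem_of_mem_normalizer hdV ha)
      have hN' : a⁻¹ * (d * a * d⁻¹) ∈ N :=
        h1 ▸ mul_mem hb (inv_mem (Coprime.conj_mem_of_mem_normalizer hdN hb))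
      have h2 := Coprime.inf_eq_bot_of_coprime' hcop hV' hN'
      have ha1 := hV a ha (mul_inv_eq_iff_eq_mul.mp (inv_mul_eq_one.mp h2).symm)
      subst ha1
      rw [hN b hb (by simpa using hdx), mul_one]
  exact congrArg Subtype.val (Transfer.nilpotent_commute_of_coprime hnil
    (x := ⟨v, mem_sup_left hv⟩) (y := ⟨n, mem_sup_right hn⟩) (by
      rw [← orderOf_injective (V ⊔ N).subtype (subtype_injective _),
        ← orderOf_injective (V ⊔ N).subtype (subtype_injective _)]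
      exact (hcop.coprime_dvd_left (V.orderOf_dvd_natCard hv)).coprime_dvd_right
        (N.orderOf_dvd_natCard hn))).eq

/-- Commutation with a fixed point free `d` is surjective. -/
theorem exists_eq_inv_mul_conj {d : X} {N : Subgroup X}
    (hdN : d ∈ normalizer (N : Set X)) (hN : ∀ x ∈ N, d * x = x * d → x = 1) {n : X}
    (hn : n ∈ N) : ∃ y ∈ N, n = y⁻¹ * (d * y * d⁻¹) := by
  let f : N → N := fun y => ⟨(y : X)⁻¹ * (d * y * d⁻¹),
    mul_mem (inv_mem y.2) (Coprime.conj_mem_of_mem_normalizer hdN y.2)⟩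
  have hinj : Function.Injective f := fun y z hyz => by
    have e : (y : X)⁻¹ * (d * y * d⁻¹) = (z : X)⁻¹ * (d * z * d⁻¹) := congrArg Subtype.val hyz
    have h1 : (z : X) * (y : X)⁻¹ = d * ((z : X) * (y : X)⁻¹) * d⁻¹ := by
      calc (z : X) * (y : X)⁻¹ = z * ((y : X)⁻¹ * (d * y * d⁻¹)) * (d * y * d⁻¹)⁻¹ := by group
        _ = z * ((z : X)⁻¹ * (d * z * d⁻¹)) * (d * y * d⁻¹)⁻¹ := by rw [e]
        _ = d * ((z : X) * (y : X)⁻¹) * d⁻¹ := by group
    exact Subtype.ext (mul_inv_eq_one.mp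
      (hN _ (mul_mem z.2 (inv_mem y.2)) (mul_inv_eq_iff_eq_mul.mp h1.symm))).symm
  obtain ⟨y, hy⟩ := Finite.surjective_of_injective hinj ⟨n, hn⟩
  exact ⟨y, y.2, (congrArg Subtype.val hy).symm⟩

/-- An element fixed point free on `N` which acts trivially on what `N` acts on. -/
theorem commute_of_centralized (hO : Op A q) {d : X} (hd : d ∈ A) {N : Subgroup X}
    (hdN : d ∈ normalizer (N : Set X)) (hN : ∀ x ∈ N, d * x = x * d → x = 1) {p : X}
    (hp : d * p = p * d) (hpN : ∀ y ∈ N, d * (y * p * y⁻¹) = (y * p * y⁻¹) * d)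
    {n : X} (hn : n ∈ N) : n * p = p * n := by
  obtain ⟨y, hy, e⟩ := exists_eq_inv_mul_conj hdN hN hn
  rw [e]
  have h3 := mul_inv_eq_iff_eq_mul.mpr (hpN y hy)
  have h4 := mul_inv_eq_iff_eq_mul.mpr hp
  have h5 : (d * y * d⁻¹) * p * (d * y * d⁻¹)⁻¹ = y * p * (y : X)⁻¹ := by
    calc (d * y * d⁻¹) * p * (d * y * d⁻¹)⁻¹
        = (d * y * d⁻¹) * (d * p * d⁻¹) * (d * y * d⁻¹)⁻¹ := by rw [h4]
      _ = d * (y * p * (y : X)⁻¹) * d⁻¹ := by group
      _ = y * p * (y : X)⁻¹ := h3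
  calc (y : X)⁻¹ * (d * y * d⁻¹) * p
      = (y : X)⁻¹ * ((d * y * d⁻¹) * p * (d * y * d⁻¹)⁻¹) * (d * y * d⁻¹) := by group
    _ = (y : X)⁻¹ * (y * p * (y : X)⁻¹) * (d * y * d⁻¹) := by rw [h5]
    _ = p * ((y : X)⁻¹ * (d * y * d⁻¹)) := by group

/-- Fixed points of `a ∈ A` in a section come from fixed points. -/
theorem exists_fixed {N : Subgroup X} (hO : Op A q) (hAN : A ≤ normalizer (N : Set X))
    (hcop : (Nat.card A).Coprime (Nat.card N)) {S : Subgroup X} (hS : S ≤ A) {x : X}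
    (hx : ∀ a ∈ S, x⁻¹ * (a * x * a⁻¹) ∈ N) : ∃ n ∈ N, ∀ a ∈ S, a * (x * n) = x * n * a := by
  obtain ⟨n, hn, h⟩ := Coprime.exists_fixed_in_coset S N (hS.trans hAN)
    (hcop.coprime_dvd_left (card_dvd_of_le hS))
    (Or.inl (Group.isSolvable_of_comm fun a b => Subtype.ext (hO.comm a (hS a.2) b (hS b.2)))) x hx
  exact ⟨n, hn, fun a ha => mem_centralizer_iff.mp h a ha⟩

/-- The image of `H` in the quotient of the normaliser of `N` by `N`. -/
def secMap (N H : Subgroup X) : Subgroup (normalizer (N : Set X) ⧸ N.subgroupOf (normalizer (N : Set X))) :=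
  (H.subgroupOf (normalizer (N : Set X))).map (QuotientGroup.mk' _)

theorem mem_secMap {N H : Subgroup X} {x : X} (hx : x ∈ normalizer (N : Set X)) (hxH : x ∈ H) :
    QuotientGroup.mk' (N.subgroupOf (normalizer (N : Set X))) ⟨x, hx⟩ ∈ secMap N H :=
  mem_map_of_mem _ hxH

theorem sec_eq_one {N : Subgroup X} {x : normalizer (N : Set X)} :
    QuotientGroup.mk' (N.subgroupOf (normalizer (N : Set X))) x = 1 ↔ (x : X) ∈ N :=
  (QuotientGroup.eq_one_iff _).trans mem_subgroupOf

theorem exists_of_mem_secMap {N H : Subgroup X}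
    {y : normalizer (N : Set X) ⧸ N.subgroupOf (normalizer (N : Set X))} (hy : y ∈ secMap N H) :
    ∃ (x : X) (hx : x ∈ normalizer (N : Set X)), x ∈ H ∧
      QuotientGroup.mk' (N.subgroupOf (normalizer (N : Set X))) ⟨x, hx⟩ = y := by
  obtain ⟨⟨x, hx⟩, hxH, rfl⟩ := hy
  exact ⟨x, hx, hxH, rfl⟩

theorem secMap_normalizer {N H B : Subgroup X} (hH : B ≤ normalizer (H : Set X))
    (hB : B ≤ normalizer (N : Set X)) :
    secMap N B ≤ normalizer (secMap N H : Set (_ ⧸ N.subgroupOf (normalizer (N : Set X)))) := by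
  refine Coprime.le_normalizer_of_conj_mem fun a ha y hy => ?_
  obtain ⟨b, hb, hbB, rfl⟩ := exists_of_mem_secMap ha
  obtain ⟨x, hx, hxH, rfl⟩ := exists_of_mem_secMap hy
  rw [← map_inv, ← map_mul, ← map_mul]
  refine mem_map_of_mem _ ?_
  show b * x * b⁻¹ ∈ H
  exact Coprime.conj_mem_of_mem_normalizer (hH hbB) hxH

theorem card_secMap_dvd (N H : Subgroup X) : Nat.card (secMap N H) ∣ Nat.card H := by
  refine (card_map_dvd _ _).trans ?_
  rw [← card_map_of_injective (K := H.subgroupOf (normalizer (N : Set X)))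
    (normalizer (N : Set X)).subtype_injective, subgroupOf_map_subtype]
  exact card_dvd_of_le inf_le_left

theorem card_secMap_of_disjoint {N H : Subgroup X} (hH : H ≤ normalizer (N : Set X))
    (hd : ∀ x ∈ H, x ∈ N → x = 1) : Nat.card (secMap N H) = Nat.card H := by
  let f : H →* normalizer (N : Set X) ⧸ N.subgroupOf (normalizer (N : Set X)) :=
    (QuotientGroup.mk' _).comp (inclusion hH)
  have hf : Function.Injective f := (injective_iff_map_eq_one f).mpr fun x hx =>
    Subtype.ext (hd x x.2 (sec_eq_one.mp hx))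
  rw [show secMap N H = f.range from le_antisymm
    (fun y hy => by
      obtain ⟨x, hx, hxH, rfl⟩ := exists_of_mem_secMap hy
      exact ⟨⟨x, hxH⟩, rfl⟩)
    (by rintro _ ⟨x, rfl⟩; exact mem_secMap (hH x.2) x.2)]
  exact (Nat.card_congr (MonoidHom.ofInjective hf).toEquiv).symm

theorem Op.disjoint (hO : Op A q) {N : Subgroup X} (hcop : (Nat.card A).Coprime (Nat.card N))
    {a : X} (ha : a ∈ A) (haN : a ∈ N) : a = 1 :=
  Coprime.inf_eq_bot_of_coprime' hcop ha haN

theorem Op.sec (hO : Op A q) {N : Subgroup X} (hA : A ≤ normalizer (N : Set X))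
    (hcop : (Nat.card A).Coprime (Nat.card N)) : Op (secMap N A) q where
  prime := hO.prime
  comm a ha b hb := by
    obtain ⟨x, hx, hxA, rfl⟩ := exists_of_mem_secMap ha
    obtain ⟨y, hy, hyA, rfl⟩ := exists_of_mem_secMap hb
    rw [← map_mul, ← map_mul]
    exact congrArg _ (Subtype.ext (hO.comm x hxA y hyA))
  exp a ha := by
    obtain ⟨x, hx, hxA, rfl⟩ := exists_of_mem_secMap ha
    rw [← map_pow, sec_eq_one]
    simp [hO.exp x hxA]
  card := by rw [card_secMap_of_disjoint hA fun x hx hxN => hO.disjoint hcop hx hxN, hO.card]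

/-- Lifting of fixed points to a section. -/
theorem exists_lift_fixed (hO : Op A q) {N H : Subgroup X} (hNH : N ≤ H)
    (hA : A ≤ normalizer (N : Set X)) (hcop : (Nat.card A).Coprime (Nat.card N))
    {S : Subgroup X} (hS : S ≤ A) {x : X} (hx : x ∈ normalizer (N : Set X)) (hxH : x ∈ H)
    (hfix : ∀ (a : X) (ha : a ∈ S),
      QuotientGroup.mk' (N.subgroupOf (normalizer (N : Set X))) ⟨a, hA (hS ha)⟩ *
        QuotientGroup.mk' _ ⟨x, hx⟩ =
      QuotientGroup.mk' _ ⟨x, hx⟩ * QuotientGroup.mk' _ ⟨a, hA (hS ha)⟩) :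
    ∃ (y : X) (hy : y ∈ normalizer (N : Set X)), y ∈ H ∧ (∀ a ∈ S, a * y = y * a) ∧
      QuotientGroup.mk' (N.subgroupOf (normalizer (N : Set X))) ⟨y, hy⟩ =
        QuotientGroup.mk' _ ⟨x, hx⟩ := by
  obtain ⟨n, hn, hc⟩ := exists_fixed hO hA hcop hS (x := x) fun a ha => by
    have e := (sec_eq_one (x := (⟨x, hx⟩ : normalizer (N : Set X))⁻¹ *
      (⟨a, hA (hS ha)⟩ * ⟨x, hx⟩ * ⟨a, hA (hS ha)⟩⁻¹))).mp (by
        rw [map_mul, map_mul, map_mul, map_inv, map_inv, hfix a ha]
        group)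
    simpa using e
  refine ⟨x * n, mul_mem hx (le_normalizer hn), mul_mem hxH (hNH hn), hc, ?_⟩
  rw [show (⟨x * n, mul_mem hx (le_normalizer hn)⟩ : normalizer (N : Set X)) =
    ⟨x, hx⟩ * ⟨n, le_normalizer hn⟩ from rfl, map_mul, (sec_eq_one (x := ⟨n, le_normalizer hn⟩)).mpr hn,
    mul_one]

theorem Good.sec (h : Good A G) (hO : Op A q) {N : Subgroup X} (hNG : N ≤ G)
    (hA : A ≤ normalizer (N : Set X)) : Good (secMap N A) (secMap N G) where
  norm := secMap_normalizer h.norm hA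
  cop := (h.cop.coprime_dvd_left (card_secMap_dvd N A)).coprime_dvd_right (card_secMap_dvd N G)
  ab a ha ha1 x hx hxa y hy hya := by
    obtain ⟨a₀, ha₀, haA, rfl⟩ := exists_of_mem_secMap ha
    obtain ⟨x₀, hx₀, hxG, rfl⟩ := exists_of_mem_secMap hx
    obtain ⟨y₀, hy₀, hyG, rfl⟩ := exists_of_mem_secMap hy
    have hne : a₀ ≠ 1 := fun e => ha1 (sec_eq_one.mpr (e ▸ one_mem N))
    have hcN := h.cop.coprime_dvd_right (card_dvd_of_le hNG)
    have hS : zpowers a₀ ≤ A := zpowers_le.mpr haA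
    have key : ∀ (z : X) (hz : z ∈ normalizer (N : Set X)),
        QuotientGroup.mk' (N.subgroupOf (normalizer (N : Set X))) ⟨a₀, ha₀⟩ *
          QuotientGroup.mk' _ ⟨z, hz⟩ =
        QuotientGroup.mk' _ ⟨z, hz⟩ * QuotientGroup.mk' _ ⟨a₀, ha₀⟩ →
        ∀ (a : X) (ha : a ∈ zpowers a₀),
          QuotientGroup.mk' (N.subgroupOf (normalizer (N : Set X))) ⟨a, hA (hS ha)⟩ *
            QuotientGroup.mk' _ ⟨z, hz⟩ =
          QuotientGroup.mk' _ ⟨z, hz⟩ * QuotientGroup.mk' _ ⟨a, hA (hS ha)⟩ := by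
      intro z hz hcz a ha
      obtain ⟨i, rfl⟩ := mem_zpowers_iff.mp ha
      rw [show (⟨a₀ ^ i, hA (hS ha)⟩ : normalizer (N : Set X)) = ⟨a₀, ha₀⟩ ^ i from
        Subtype.ext (by simp), map_zpow]
      exact (Commute.zpow_left hcz i).eq
    obtain ⟨x', hx', hx'G, hx'c, hxe⟩ := exists_lift_fixed hO hNG hA hcN hS hx₀ hxG (key _ _ hxa)
    obtain ⟨y', hy', hy'G, hy'c, hye⟩ := exists_lift_fixed hO hNG hA hcN hS hy₀ hyG (key _ _ hya)
    rw [← hxe, ← hye, ← map_mul, ← map_mul]
    exact congrArg _ (Subtype.ext (h.ab a₀ haA hne x' hx'G (hx'c a₀ (mem_zpowers a₀)) y' hy'G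
      (hy'c a₀ (mem_zpowers a₀))))

theorem Fpf.sec (h : Fpf A G) (hO : Op A q) {N : Subgroup X} (hNG : N ≤ G)
    (hA : A ≤ normalizer (N : Set X)) : Fpf (secMap N A) (secMap N G) where
  toGood := h.toGood.sec hO hNG hA
  fix x hx hxa := by
    obtain ⟨x₀, hx₀, hxG, rfl⟩ := exists_of_mem_secMap hx
    obtain ⟨y, hy, hyG, hc, he⟩ := exists_lift_fixed hO hNG hA
      (h.cop.coprime_dvd_right (card_dvd_of_le hNG)) (le_refl A) hx₀ hxG
      fun a ha => hxa _ (mem_secMap (hA ha) ha)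
    rw [← he, sec_eq_one]
    exact (h.fix y hyG hc).symm ▸ one_mem N

end Cfsg.Agent.FG78.Ab4323
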