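import Cfsg.Agent.FG78.Abelian4323.Setting
import Cfsg.Prelude.Def_Amalgam
import Cfsg.Agent.Lib.Thompson.Cores
import Cfsg.Agent.Lib.Fitting.Minimal
import Cfsg.Agent.Lib.PGroup.Basic

/-!
General facts used for S4323: cores of a subgroup, images in sections, Burnside's argument mod the
Frattini subgroup.
-/

set_option autoImplicit false
set_option linter.unusedSectionVars false

namespace Cfsg.Agent.FG78.Ab4323

open Subgroup
open scoped commutatorElement

universe u

variable {X : Type u} [Group X] [Finite X]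

theorem pCoreOf_le (r : ℕ) (H : Subgroup X) : Cfsg.pCoreOf r H ≤ H := map_subtype_le _

theorem isPGroup_pCoreOf (r : ℕ) [Fact r.Prime] (H : Subgroup X) :
    IsPGroup r (Cfsg.pCoreOf r H) :=
  (Fitting.pCore_isPGroup r).map _

theorem le_pCoreOf {r : ℕ} {T H : Subgroup X} (hTH : T ≤ H)
    (hn : H ≤ normalizer (T : Set X)) (hT : IsPGroup r T) : T ≤ Cfsg.pCoreOf r H := by
  have h : T.subgroupOf H ≤ Cfsg.pCore r H :=
    Fitting.le_pCore ((normal_subgroupOf_iff_le_normalizer hTH).mpr hn)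
      (hT.of_equiv (subgroupOfEquivOfLe hTH).symm)
  intro x hx
  exact ⟨⟨x, hTH hx⟩, h hx, rfl⟩

theorem normalizer_le_normalizer_pCoreOf (r : ℕ) (H : Subgroup X) :
    normalizer (H : Set X) ≤ normalizer (Cfsg.pCoreOf r H : Set X) :=
  haveI : (Cfsg.pCore r H).Characteristic := Thompson.instPCoreCharacteristic
  Coprime.normalizer_le_normalizer_map H _

theorem prime_eq_of_dvd_of_isPGroup {r p : ℕ} [Fact r.Prime] (hp : p.Prime) {K : Subgroup X}
    (hK : IsPGroup r K) (hd : p ∣ Nat.card K) : p = r := by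
  obtain ⟨n, hn⟩ := IsPGroup.iff_card.mp hK
  rw [hn] at hd
  exact (Nat.prime_dvd_prime_iff_eq hp Fact.out).mp (hp.dvd_of_dvd_pow hd)

theorem coprime_of_isPGroup {r s : ℕ} [Fact r.Prime] [Fact s.Prime] (h : r ≠ s)
    {R S : Subgroup X} (hR : IsPGroup r R) (hS : IsPGroup s S) :
    (Nat.card R).Coprime (Nat.card S) :=
  Nat.coprime_of_dvd fun _ hp hpR hpS =>
    h ((prime_eq_of_dvd_of_isPGroup hp hR hpR).symm.trans
      (prime_eq_of_dvd_of_isPGroup hp hS hpS))

/-- In a soluble `{r, s}`-group with trivial `s`-core, the `r`-core contains its centraliser. -/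
theorem cent_core_le {r s : ℕ} [Fact r.Prime] {H : Subgroup X} (hH : Group.IsSolvable H)
    (hrs : ∀ p : ℕ, p.Prime → p ∣ Nat.card H → p = r ∨ p = s) (hs : Cfsg.pCoreOf s H = ⊥) :
    H ⊓ centralizer (Cfsg.pCoreOf r H : Set X) ≤ Cfsg.pCoreOf r H := by
  haveI := hH
  have hF : Cfsg.fittingSubgroup H = Cfsg.pCore r H := by
    refine le_antisymm ?_ (Fitting.pCore_le_fitting r)
    rw [Fitting.fitting_eq_iSup_pCore]
    refine iSup_le fun p => ?_
    by_cases hpr : (p : ℕ) = r
    · rw [hpr]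
    by_cases hps : (p : ℕ) = s
    · rw [hps, (map_eq_bot_iff_of_injective _ H.subtype_injective).mp hs]
      exact bot_le
    haveI : Fact (p : ℕ).Prime := ⟨p.2⟩
    obtain ⟨n, hn⟩ := IsPGroup.iff_card.mp (Fitting.pCore_isPGroup (G := H) (p : ℕ))
    rcases Nat.eq_zero_or_pos n with h0 | h0
    · rw [h0, pow_zero] at hn
      exact (eq_bot_of_card_eq _ hn).le.trans bot_le
    have : (p : ℕ) ∣ Nat.card H :=
      ((dvd_pow_self _ h0.ne').trans hn.symm.dvd).trans (card_subgroup_dvd_card _)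
    rcases hrs p p.2 this with h | h
    exacts [absurd h hpr, absurd h hps]
  rintro x ⟨hxH, hxc⟩
  refine ⟨⟨x, hxH⟩, ?_, rfl⟩
  rw [← hF]
  refine Fitting.centralizer_fitting_le (mem_centralizer_iff.mpr fun y hy => Subtype.ext ?_)
  rw [hF] at hy
  exact mem_centralizer_iff.mp hxc y ⟨y, hy, rfl⟩

section Sections

variable {N : Subgroup X}

theorem secMap_mono {H K : Subgroup X} (h : H ≤ K) : secMap N H ≤ secMap N K :=
  map_mono (comap_mono h)

theorem isPGroup_secMap {r : ℕ} [Fact r.Prime] {H : Subgroup X} (hH : IsPGroup r H) :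
    IsPGroup r (secMap N H) := by
  obtain ⟨n, hn⟩ := IsPGroup.iff_card.mp hH
  obtain ⟨i, -, hi⟩ := (Nat.dvd_prime_pow Fact.out).mp (hn ▸ card_secMap_dvd N H)
  exact IsPGroup.of_card hi

theorem secMap_eq_bot {H : Subgroup X} (hH : H ≤ normalizer (N : Set X))
    (h : secMap N H = ⊥) : H ≤ N := fun x hx =>
  sec_eq_one.mp (mem_bot.mp (h ▸ mem_secMap (hH hx) hx))

theorem isSolvable_secMap (N : Subgroup X) {H : Subgroup X} (hH : Group.IsSolvable H) :
    Group.IsSolvable (secMap N H) := by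
  haveI : Group.IsSolvable (H.subgroupOf (normalizer (N : Set X))) :=
    haveI := hH
    Group.isSolvable_of_isSolvable_injective
      (f := ((normalizer (N : Set X)).subtype.subgroupComap H))
      (fun a b h => Subtype.ext (Subtype.ext (congrArg (fun z : H => (z : X)) h)))
  exact Group.isSolvable_of_surjective
    ((QuotientGroup.mk' (N.subgroupOf (normalizer (N : Set X)))).subgroupMap_surjective _)

/-- An extension of soluble by soluble. -/
theorem isSolvable_of_secMap {G : Subgroup X} (hG : G ≤ normalizer (N : Set X))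
    (hN : Group.IsSolvable N) (hq : Group.IsSolvable (secMap N G)) :
    Group.IsSolvable G := by
  let f : G →* secMap N G :=
    { toFun := fun x => ⟨_, mem_secMap (hG x.2) x.2⟩
      map_one' := Subtype.ext (map_one (QuotientGroup.mk' _))
      map_mul' := fun x y => Subtype.ext
        (map_mul (QuotientGroup.mk' _) (⟨x, hG x.2⟩ : normalizer (N : Set X)) ⟨y, hG y.2⟩) }
  haveI := hN
  haveI := hq
  haveI : Group.IsSolvable f.ker := Group.isSolvable_of_isSolvable_injective
    (f := ({ toFun := fun x => ⟨((x : G) : X), sec_eq_one.mp (congrArg Subtype.val x.2)⟩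
             map_one' := rfl
             map_mul' := fun _ _ => rfl } : f.ker →* N))
    (fun a b h => Subtype.ext (Subtype.ext (congrArg (fun z : N => (z : X)) h)))
  exact solvable_of_ker_le_range f.ker.subtype f (by simp)

/-- The preimage in `X` of a subgroup of the section. -/
def secPre (N : Subgroup X)
    (K : Subgroup (normalizer (N : Set X) ⧸ N.subgroupOf (normalizer (N : Set X)))) :
    Subgroup X :=
  (K.comap (QuotientGroup.mk' _)).map (normalizer (N : Set X)).subtype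

variable {K : Subgroup (normalizer (N : Set X) ⧸ N.subgroupOf (normalizer (N : Set X)))}

theorem mem_secPre {x : X} : x ∈ secPre N K ↔ ∃ hx : x ∈ normalizer (N : Set X),
    QuotientGroup.mk' (N.subgroupOf (normalizer (N : Set X))) ⟨x, hx⟩ ∈ K :=
  ⟨fun ⟨y, hy, h⟩ => h ▸ ⟨y.2, hy⟩, fun ⟨hx, h⟩ => ⟨⟨x, hx⟩, h, rfl⟩⟩

theorem le_secPre : N ≤ secPre N K := fun _ hx =>
  mem_secPre.mpr ⟨le_normalizer hx, by rw [sec_eq_one.mpr hx]; exact one_mem K⟩

theorem secPre_le_normalizer : secPre N K ≤ normalizer (N : Set X) := map_subtype_le _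

theorem secPre_le {G : Subgroup X} (hNG : N ≤ G) (hK : K ≤ secMap N G) : secPre N K ≤ G := by
  intro x hx
  obtain ⟨hxn, hxK⟩ := mem_secPre.mp hx
  obtain ⟨y, hy, hyG, e⟩ := exists_of_mem_secMap (hK hxK)
  have h := (QuotientGroup.eq.mp e : _)
  have h' : y⁻¹ * x ∈ N := h
  simpa using mul_mem hyG (hNG h')

theorem secMap_secPre : secMap N (secPre N K) = K := by
  refine le_antisymm (fun z hz => ?_) fun z hz => ?_
  · obtain ⟨x, hx, hxP, rfl⟩ := exists_of_mem_secMap hz
    exact (mem_secPre.mp hxP).2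
  · obtain ⟨x, rfl⟩ := QuotientGroup.mk'_surjective _ z
    exact mem_secMap x.2 (mem_secPre.mpr ⟨x.2, hz⟩)

theorem card_secPre : Nat.card (secPre N K) = Nat.card K * Nat.card N := by
  rw [secPre, ← Nat.card_congr (equivMapOfInjective _ _ (normalizer (N : Set X)).subtype_injective).toEquiv,
    Thompson.card_comap_quotient, Nat.card_congr (subgroupOfEquivOfLe le_normalizer).toEquiv]

theorem isPGroup_secPre {r : ℕ} [Fact r.Prime] (hN : IsPGroup r N) (hK : IsPGroup r K) :
    IsPGroup r (secPre N K) := by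
  obtain ⟨m, hm⟩ := IsPGroup.iff_card.mp hN
  obtain ⟨n, hn⟩ := IsPGroup.iff_card.mp hK
  exact IsPGroup.of_card (by rw [card_secPre, hm, hn, ← pow_add])

theorem le_normalizer_secPre {B : Subgroup X} (hB : B ≤ normalizer (N : Set X))
    (hBK : secMap N B ≤ normalizer (K : Set (_ ⧸ N.subgroupOf (normalizer (N : Set X))))) :
    B ≤ normalizer (secPre N K : Set X) :=
  Coprime.le_normalizer_of_conj_mem fun b hb x hx => by
    obtain ⟨hxn, hxK⟩ := mem_secPre.mp hx
    refine mem_secPre.mpr ⟨mul_mem (mul_mem (hB hb) hxn) (inv_mem (hB hb)), ?_⟩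
    have := Coprime.conj_mem_of_mem_normalizer (hBK (mem_secMap (hB hb) hb)) hxK
    rw [← map_inv, ← map_mul, ← map_mul] at this
    exact this

end Sections

variable {A G : Subgroup X} {q : ℕ}

theorem le_normalizer_comm {B H K : Subgroup X} (hH : B ≤ normalizer (H : Set X))
    (hK : B ≤ normalizer (K : Set X)) : B ≤ normalizer ((⁅H, K⁆ : Subgroup X) : Set X) :=
  Coprime.le_normalizer_of_conj_mem fun b hb x hx => by
    refine ((commutator_le.mpr fun h hh k hk => ?_) :
      ⁅H, K⁆ ≤ (⁅H, K⁆).comap ((MulAut.conj b : X ≃* X) : X →* X)) hx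
    show b * ⁅h, k⁆ * b⁻¹ ∈ ⁅H, K⁆
    have := commutator_mem_commutator (Coprime.conj_mem_of_mem_normalizer (hH hb) hh)
      (Coprime.conj_mem_of_mem_normalizer (hK hb) hk)
    simpa [commutatorElement_def, mul_assoc] using this

/-- `⁅V, W⁆` has no fixed points of `a` if `W` consists of fixed points and `V` is abelian. -/
theorem free_bracket (h : Good A G) {a : X} (ha : a ∈ A) (ha1 : a ≠ 1) {V W : Subgroup X}
    (hVG : V ≤ G) [IsMulCommutative V] (hWG : W ≤ G) (hWa : ∀ w ∈ W, a * w = w * a)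
    (hWV : W ≤ normalizer (V : Set X)) (hcop : (Nat.card W).Coprime (Nat.card V))
    {x : X} (hx : x ∈ ⁅V, W⁆) (hxa : a * x = x * a) : x = 1 := by
  have h1 : x ∈ ⁅V, W⁆ ⊓ centralizer (W : Set X) :=
    ⟨hx, mem_centralizer_iff.mpr fun w hw => h.ab a ha ha1 w (hWG hw) (hWa w hw) x
      (hVG (Coprime.commutator_le_of_le_normalizer hWV hx)) hxa⟩
  rwa [Coprime.commutator_inf_centralizer_eq_bot W V hWV hcop, mem_bot] at h1

theorem isMulCommutative_of_le {H K : Subgroup X} (h : H ≤ K) [IsMulCommutative K] :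
    IsMulCommutative H :=
  ⟨⟨fun a b => Subtype.ext (by
    have := congrArg Subtype.val (IsMulCommutative.is_comm.comm (⟨a, h a.2⟩ : K) ⟨b, h b.2⟩)
    exact this)⟩⟩

theorem Op.centralizes_or (hO : Op A q) {a b : X} (ha : a ∈ A) (hb : b ∈ A) (hb1 : b ≠ 1) :
    b ∉ zpowers a ∨ ∀ x : X, b * x = x * b → a * x = x * a := by
  by_cases h : b ∈ zpowers a
  · right
    intro x hx
    rcases eq_or_ne a 1 with rfl | ha1
    · simp
    have : zpowers b = zpowers a := eq_of_le_of_card_ge (zpowers_le.mpr h) (by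
      rw [Nat.card_zpowers, Nat.card_zpowers, hO.orderOf_eq hb hb1, hO.orderOf_eq ha ha1])
    obtain ⟨i, hi⟩ := mem_zpowers_iff.mp (this ▸ mem_zpowers a)
    rw [← hi]
    exact (Commute.zpow_left hx i).eq
  · exact Or.inl h

/-- An action on `Q` fixed point free for `c` and trivial on the fixed points of `c` is trivial. -/
theorem cent_of_cent_fixed (hG : Good A G) (hO : Op A q) {c : X} (hc : c ∈ A) (hc1 : c ≠ 1)
    {s : ℕ} [Fact s.Prime] {Q R : Subgroup X} (hQ : IsPGroup s Q) (hQG : Q ≤ G)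
    (hAQ : A ≤ normalizer (Q : Set X)) (hcR : c ∈ normalizer (R : Set X))
    (hRQ : R ≤ normalizer (Q : Set X)) (hcop : (Nat.card R).Coprime (Nat.card Q))
    (hfree : ∀ x ∈ R, c * x = x * c → x = 1)
    (hcent : ∀ r ∈ R, ∀ y ∈ Q, c * y = y * c → r * y = y * r) :
    R ≤ centralizer (Q : Set X) := by
  let Φ := (frattini Q).map Q.subtype
  have hΦQ : Φ ≤ Q := map_subtype_le _
  have hΦc : Nat.card Φ = Nat.card (frattini Q) :=
    (Nat.card_congr (equivMapOfInjective _ _ Q.subtype_injective).toEquiv).symm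
  have hN : normalizer (Q : Set X) ≤ normalizer (Φ : Set X) :=
    Coprime.normalizer_le_normalizer_map Q _
  refine Coprime.le_centralizer_of_frattini R Q hRQ
    (hcop.coprime_dvd_right (card_subgroup_dvd_card _)) fun r hr y hy => ?_
  have hAΦ : A ≤ normalizer (Φ : Set X) := hAQ.trans hN
  have hQΦ : Q ≤ normalizer (Φ : Set X) := le_normalizer.trans hN
  have hRΦ : R ≤ normalizer (Φ : Set X) := hRQ.trans hN
  have hcA : zpowers c ≤ A := zpowers_le.mpr hc
  have hcopA : (Nat.card A).Coprime (Nat.card Φ) :=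
    hG.cop.coprime_dvd_right (card_dvd_of_le (hΦQ.trans hQG))
  have hcm : c ∈ normalizer (Φ : Set X) := hAΦ hc
  set cb := QuotientGroup.mk' (Φ.subgroupOf (normalizer (Φ : Set X))) ⟨c, hcm⟩ with hcb
  haveI : IsMulCommutative (secMap Φ Q) := ⟨⟨fun u v => by
    obtain ⟨u₀, hu, huQ, hue⟩ := exists_of_mem_secMap u.2
    obtain ⟨v₀, hv, hvQ, hve⟩ := exists_of_mem_secMap v.2
    refine Subtype.ext ?_
    show (u : _ ⧸ Φ.subgroupOf (normalizer (Φ : Set X))) * v = v * u
    rw [← hue, ← hve, ← commutatorElement_eq_one_iff_mul_comm, ← map_commutatorElement,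
      sec_eq_one]
    exact ⟨_, PGroup.comm_mem_frattini hQ ⟨u₀, huQ⟩ ⟨v₀, hvQ⟩, rfl⟩⟩⟩
  set W := ⁅secMap Φ Q, secMap Φ R⁆ with hW
  have hRn : secMap Φ R ≤ normalizer (secMap Φ Q : Set _) := secMap_normalizer hRQ hRΦ
  have hWQ : W ≤ secMap Φ Q := Coprime.commutator_le_of_le_normalizer hRn
  have hcopb : (Nat.card (secMap Φ R)).Coprime (Nat.card (secMap Φ Q)) :=
    (hcop.coprime_dvd_left (card_secMap_dvd Φ R)).coprime_dvd_right (card_secMap_dvd Φ Q)
  have hcz : zpowers c ≤ normalizer (Φ : Set X) := zpowers_le.mpr hcm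
  have hcQb : cb ∈ normalizer (secMap Φ Q : Set _) :=
    secMap_normalizer (zpowers_le.mpr (hAQ hc)) hcz (mem_secMap hcm (mem_zpowers c))
  have hcRb : cb ∈ normalizer (secMap Φ R : Set _) :=
    secMap_normalizer (zpowers_le.mpr hcR) hcz (mem_secMap hcm (mem_zpowers c))
  have hfix : ∀ (x : X) (hx : x ∈ normalizer (Φ : Set X)),
      cb * QuotientGroup.mk' _ ⟨x, hx⟩ = QuotientGroup.mk' _ ⟨x, hx⟩ * cb →
        x⁻¹ * (c * x * c⁻¹) ∈ Φ := fun x hx he => by
    have e := (sec_eq_one (x := (⟨x, hx⟩ : normalizer (Φ : Set X))⁻¹ *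
      (⟨c, hcm⟩ * ⟨x, hx⟩ * ⟨c, hcm⟩⁻¹))).mp (by
        simp only [map_mul, map_inv]
        rw [← hcb, he]
        group)
    simpa using e
  have hWfree : ∀ w ∈ W, cb * w = w * cb → w = 1 := by
    intro w hw hwc
    obtain ⟨y, hy, hyQ, rfl⟩ := exists_of_mem_secMap (hWQ hw)
    obtain ⟨n, hn, hnc⟩ := exists_fixed hO hAΦ hcopA hcA (x := y) fun a ha => by
      obtain ⟨i, rfl⟩ := mem_zpowers_iff.mp ha
      have := (Commute.zpow_left (show Commute cb (QuotientGroup.mk' _ ⟨y, hy⟩) from hwc) i).eq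
      rw [hcb, ← map_zpow] at this
      have e := (sec_eq_one (x := (⟨y, hy⟩ : normalizer (Φ : Set X))⁻¹ *
        (⟨c, hcm⟩ ^ i * ⟨y, hy⟩ * (⟨c, hcm⟩ ^ i)⁻¹))).mp (by
          simp only [map_mul, map_inv]
          rw [this]
          group)
      simpa using e
    have hmem : QuotientGroup.mk' (Φ.subgroupOf (normalizer (Φ : Set X))) ⟨y, hy⟩ ∈
        W ⊓ centralizer (secMap Φ R : Set _) := by
      refine ⟨hw, mem_centralizer_iff.mpr fun z hz => ?_⟩
      obtain ⟨x, hx, hxR, rfl⟩ := exists_of_mem_secMap hz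
      have e : QuotientGroup.mk' (Φ.subgroupOf (normalizer (Φ : Set X))) ⟨y, hy⟩ =
          QuotientGroup.mk' _ ⟨y * n, mul_mem hy (le_normalizer hn)⟩ := by
        rw [show (⟨y * n, mul_mem hy (le_normalizer hn)⟩ : normalizer (Φ : Set X)) =
          ⟨y, hy⟩ * ⟨n, le_normalizer hn⟩ from rfl, map_mul,
          (sec_eq_one (x := ⟨n, le_normalizer hn⟩)).mpr hn, mul_one]
      rw [e, ← map_mul, ← map_mul]
      exact congrArg _ (Subtype.ext (hcent x hxR _ (mul_mem hyQ (hΦQ hn))
        (hnc c (mem_zpowers c))))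
    rwa [Coprime.commutator_inf_centralizer_eq_bot (secMap Φ R) (secMap Φ Q) hRn hcopb,
      mem_bot] at hmem
  have hRfree : ∀ z ∈ secMap Φ R, cb * z = z * cb → z = 1 := by
    intro z hz hzc
    obtain ⟨x, hx, hxR, rfl⟩ := exists_of_mem_secMap hz
    have h1 := Coprime.inf_eq_bot_of_coprime' (hcop.coprime_dvd_right (card_dvd_of_le hΦQ))
      (mul_mem (inv_mem hxR) (Coprime.conj_mem_of_mem_normalizer hcR hxR)) (hfix x hx hzc)
    rw [sec_eq_one]
    have h2 := hfree x hxR (mul_inv_eq_iff_eq_mul.mp (inv_mul_eq_one.mp h1).symm)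
    exact h2.symm ▸ one_mem Φ
  have hne : cb ≠ 1 := fun e => hc1 (hO.disjoint hcopA hc (sec_eq_one.mp e))
  have hW1 : ∀ w ∈ W, w = 1 := fun w hw => by
    have hmem : w ∈ W ⊓ centralizer (secMap Φ R : Set _) := ⟨hw, mem_centralizer_iff.mpr
      fun z hz => (commute_of_fpf (hO.sec hAΦ hcopA) (mem_secMap hcm hc) hne
        (le_normalizer_comm (zpowers_le.mpr hcQb) (zpowers_le.mpr hcRb) (mem_zpowers cb))
        hcRb (Coprime.le_normalizer_commutator_right _ _)
        (hcopb.symm.coprime_dvd_left (card_dvd_of_le hWQ)) hWfree hRfree hw hz).symm⟩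
    rwa [Coprime.commutator_inf_centralizer_eq_bot (secMap Φ R) (secMap Φ Q) hRn hcopb,
      mem_bot] at hmem
  have h1 := hW1 _ (commutator_mem_commutator (mem_secMap (hQΦ hy) hy) (mem_secMap (hRΦ hr) hr))
  rw [← map_commutatorElement, sec_eq_one] at h1
  have h2 := inv_mem h1
  have h3 : ⁅y, r⁆⁻¹ ∈ Φ := h2
  rwa [commutatorElement_inv, commutatorElement_def] at h3

end Cfsg.Agent.FG78.Ab4323
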